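import Cfsg.Agent.Lib.CoxTorus.F4
import Cfsg.Agent.Lib.Lie.ParabolicCells

/-! No element of W(F4) has two of the cyclotomic polynomials of degrees 3, 4, 6 as eigenpolynomials. -/

set_option autoImplicit false
set_option maxRecDepth 20000

namespace Cfsg.Agent.F4Graph

open Cfsg.Lie Cfsg.Agent.Chev Cfsg.Agent.Chev.Tab Cfsg.Agent.ChevAut Cfsg.Agent.CoxTorus Matrix
  Polynomial

variable {T : Tab}

theorem step_words (g : T.Good) {J J' : List ℕ} {D : List Rep} (h : T.checkStep J J' D = true) :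
    ∀ L : List ℕ, (∀ i ∈ L, i ∈ J') → ∃ u, (∀ i ∈ u, i ∈ J) ∧ T.Wd u ∧
      ∃ d ∈ D, T.Wd d.word ∧ pL g L = pL g (u ++ d.word) := by
  obtain ⟨hl, hsub, ⟨d0, hd0, hd0'⟩, -, hD⟩ := rep_spec h
  have hDw : ∀ d ∈ D, T.Wd d.word := fun d hd i hi => hl i ((hD d hd).1 i hi)
  intro L
  induction L using List.reverseRecOn with
  | nil => exact fun _ => ⟨[], by simp, by simp [Wd], d0, hd0, hDw d0 hd0, by rw [hd0']; rfl⟩
  | append_singleton L i ih =>
    intro hL
    obtain ⟨u, huJ, hu, d, hd, -, e⟩ := ih fun y hy => hL y (List.mem_append_left _ hy)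
    obtain ⟨-, -, -, -, hlen, hnext⟩ := hD d hd
    obtain ⟨k, hk, hki⟩ := List.getElem_of_mem (hL i (by simp))
    have hspec := hnext k i (d.next[k]'(hlen ▸ hk)) (by rw [List.getElem?_eq_getElem hk, hki])
      (List.getElem?_eq_getElem _)
    have hwi : T.Wd (d.word ++ [i]) :=
      Wd.append_iff.2 ⟨hDw d hd, by simp [Wd, hl i (hL i (by simp))]⟩
    split at hspec
    · obtain ⟨d', hd', hk'⟩ := hspec
      refine ⟨u, huJ, hu, d', List.mem_of_getElem? hd', hDw d' (List.mem_of_getElem? hd'), ?_⟩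
      rw [pL_append g L, e, pL_append g u, pL_append g u, mul_assoc, ← pL_append g d.word,
        pL_eq_of_simple g hwi (hDw d' (List.mem_of_getElem? hd')) (keyL_eq.1 hk')]
    · obtain ⟨hjJ, hk'⟩ := hspec
      have hjl := hl _ (hsub _ hjJ)
      refine ⟨u ++ [(d.next[k]'(hlen ▸ hk)).2], fun y hy => ?_, Wd.append_iff.2 ⟨hu, by simp [Wd, hjl]⟩, d, hd, hDw d hd, ?_⟩
      · rcases List.mem_append.1 hy with hy | hy
        · exact huJ y hy
        · rw [List.mem_singleton] at hy; exact hy ▸ hjJ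
      rw [pL_append g L, e, pL_append g u, mul_assoc, ← pL_append g d.word,
        pL_eq_of_simple g hwi (Wd.cons_iff.2 ⟨hjl, hDw d hd⟩) (keyL_eq.1 hk'), List.append_assoc,
        pL_append g u, List.singleton_append]

/-- Rows of a product. -/
def mulM (A B : List (List ℤ)) : List (List ℤ) :=
  (List.range 4).map fun i => (List.range 4).map fun j =>
    sumBelow (fun k => (A.getD i []).getD k 0 * (B.getD k []).getD j 0) 4

/-- Rows of the identity. -/
def oneM : List (List ℤ) :=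
  (List.range 4).map fun i => (List.range 4).map fun j => bif Nat.beq i j then 1 else 0

/-- Rows of a fundamental reflection. -/
def reflM (i : ℕ) : List (List ℤ) :=
  (List.range 4).map fun a => (List.range 4).map fun b =>
    (bif Nat.beq a b then (1 : ℤ) else 0) -
      (bif Nat.beq b i then F4Data.tab.A a (F4Data.tab.smp i) else 0)

/-- Rows of a word. -/
def wordM (L : List ℕ) : List (List ℤ) := L.foldr (fun i M => mulM (reflM i) M) oneM

local notation "l4" => F4Data.tab.l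

theorem lmat_mulM (A B : List (List ℤ)) : lmat l4 (mulM A B) = lmat l4 A * lmat l4 B := by
  ext i j
  have hi : (i : ℕ) < 4 := i.2
  have hj : (j : ℕ) < 4 := j.2
  rw [Matrix.mul_apply]
  simp only [lmat, mulM, Matrix.of_apply, List.getD_eq_getElem?_getD, List.getElem?_map,
    List.getElem?_range hi, List.getElem?_range hj, Option.map_some, Option.getD_some, sumBelow_eq_sum]
  exact Finset.sum_range (fun k => ((A[(i : ℕ)]?.getD [])[k]?.getD 0) * ((B[k]?.getD [])[(j : ℕ)]?.getD 0))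

theorem lmat_oneM : lmat l4 oneM = 1 := by
  have h : ∀ a b : Fin l4, lmat l4 oneM a b - (bif Nat.beq a b then (1 : ℤ) else 0) = 0 := by
    decide +kernel
  ext a b
  rw [sub_eq_zero.1 (h a b), Matrix.one_apply]
  rcases eq_or_ne a b with rfl | hab
  · simp
  · rw [if_neg hab, nat_beq_false.2 fun h => hab (Fin.ext h), cond_false]

theorem lmat_reflM : ∀ i : Fin l4, ∀ a b : Fin l4,
    lmat l4 (reflM i) a b - rmat F4Data.tab i a b = 0 := by
  decide +kernel

theorem lmat_wordM : ∀ {L : List ℕ}, F4Data.tab.Wd L → lmat l4 (wordM L) = wmat F4Data.tab L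
  | [], _ => by rw [wmat_nil]; exact lmat_oneM
  | i :: L, h => by
    obtain ⟨hi, hL⟩ := Wd.cons_iff.1 h
    rw [show wordM (i :: L) = mulM (reflM i) (wordM L) from rfl, lmat_mulM, lmat_wordM hL, wmat_cons]
    congr 1
    exact Matrix.ext fun a b => sub_eq_zero.1 (lmat_reflM ⟨i, hi⟩ a b)

/-- Trace. -/
def trM (A : List (List ℤ)) : ℤ := sumBelow (fun i => (A.getD i []).getD i 0) 4

/-- Evaluation of a monic quartic at a matrix vanishes. -/
def killM (M : List (List ℤ)) (a₃ a₂ a₁ a₀ : ℤ) : Bool :=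
  let M2 := mulM M M
  let M3 := mulM M2 M
  let M4 := mulM M2 M2
  allBelow (fun i => allBelow (fun j =>
    (M4.getD i []).getD j 0 + a₃ * (M3.getD i []).getD j 0 + a₂ * (M2.getD i []).getD j 0 +
      a₁ * (M.getD i []).getD j 0 + a₀ * (oneM.getD i []).getD j 0 == 0) 4) 4

/-- The three excluded patterns. -/
def badM (M : List (List ℤ)) : Bool :=
  (trM M == -1 && killM M 1 2 1 1) || ((trM M == 0 && killM M 0 1 0 1) ||
    (trM M == 1 && killM M (-1) 2 (-1) 1))

/-- The words of the elements of the Weyl group. -/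
def allWords : List (List ℕ) :=
  F4Data.reps3.flatMap fun d => F4Data.reps2.flatMap fun c => F4Data.reps1.flatMap fun b =>
    F4Data.reps0.map fun a => ((a.word ++ b.word) ++ c.word) ++ d.word

theorem no_bad : allWords.all (fun L => !badM (wordM L)) = true := by decide +kernel

theorem exists_word_eq {L : List ℕ} (hL : F4Data.tab.Wd L) :
    ∃ L₀ ∈ allWords, F4Data.tab.Wd L₀ ∧ wmat F4Data.tab L = wmat F4Data.tab L₀ := by
  have hg := F4Data.good
  have hJ : ∀ i ∈ L, i ∈ [2, 1, 3, 0] := fun i hi => by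
    have : i < 4 := hL i hi
    interval_cases i <;> simp
  obtain ⟨u3, h3, w3, d, hd, wd', e3⟩ := step_words hg F4Data.step3 L hJ
  obtain ⟨u2, h2, w2, c, hc, wc, e2⟩ := step_words hg F4Data.step2 u3 h3
  obtain ⟨u1, h1, w1, b, hb, wb, e1⟩ := step_words hg F4Data.step1 u2 h2
  obtain ⟨u0, h0, w0, a, ha, wa, e0⟩ := step_words hg F4Data.step0 u1 h1
  obtain rfl : u0 = [] := List.eq_nil_iff_forall_not_mem.2 fun i hi => List.not_mem_nil (h0 i hi)
  have hW : F4Data.tab.Wd (((a.word ++ b.word) ++ c.word) ++ d.word) :=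
    Wd.append_iff.2 ⟨Wd.append_iff.2 ⟨Wd.append_iff.2 ⟨wa, wb⟩, wc⟩, wd'⟩
  refine ⟨((a.word ++ b.word) ++ c.word) ++ d.word, ?_, hW, ?_⟩
  · simp only [allWords, List.mem_flatMap, List.mem_map]
    exact ⟨d, hd, c, hc, b, hb, a, ha, rfl⟩
  · refine wmat_congr hg ⟨1, one_pos, CoxTorus.F4.dualOK⟩ hL hW ?_
    rw [← pL_eq_iff hg hL hW, e3, pL_append _ u3, e2, pL_append _ u2, e1, pL_append _ u1, e0,
      List.nil_append, ← pL_append, ← pL_append, ← pL_append]

/-- The characteristic polynomial determines trace and annihilator. -/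
theorem charpoly_ne {L : List ℕ} (hL : F4Data.tab.Wd L) {a₃ a₂ a₁ a₀ : ℤ}
    (hbad : ∀ M, trM M = -a₃ → killM M a₃ a₂ a₁ a₀ = true → badM M = true) :
    (wmat F4Data.tab L).charpoly ≠ X ^ 4 + C a₃ * X ^ 3 + C a₂ * X ^ 2 + C a₁ * X + C a₀ := by
  intro hP
  obtain ⟨L₀, hL₀, hW₀, e⟩ := exists_word_eq hL
  have hn := List.all_eq_true.1 no_bad L₀ hL₀
  rw [e, ← lmat_wordM hW₀] at hP
  set A := lmat l4 (wordM L₀) with hA
  have h1 : trM (wordM L₀) = -a₃ := by
    haveI : Nonempty (Fin l4) := ⟨⟨0, by decide +kernel⟩⟩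
    have ht : A.trace = trM (wordM L₀) := by
      rw [trM, sumBelow_eq_sum, Finset.sum_range, Matrix.trace]
      rfl
    rw [← ht, trace_eq_neg_charpoly_coeff, Fintype.card_fin, show l4 - 1 = 3 from rfl, hP]
    simp [coeff_X_pow, coeff_C, coeff_X, coeff_C_mul, -eq_intCast]
  have h2 : killM (wordM L₀) a₃ a₂ a₁ a₀ = true := by
    have hk : aeval A A.charpoly = 0 := aeval_self_charpoly A
    rw [hP] at hk
    simp only [map_add, map_mul, map_pow, aeval_X, aeval_C, Algebra.algebraMap_eq_smul_one, smul_mul_assoc, one_mul] at hk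
    have e2 : A ^ 2 = lmat l4 (mulM (wordM L₀) (wordM L₀)) := by rw [lmat_mulM, pow_two]
    have e3 : A ^ 3 = lmat l4 (mulM (mulM (wordM L₀) (wordM L₀)) (wordM L₀)) := by
      rw [lmat_mulM, ← e2, pow_succ]
    have e4 : A ^ 4 = lmat l4 (mulM (mulM (wordM L₀) (wordM L₀)) (mulM (wordM L₀) (wordM L₀))) := by
      rw [lmat_mulM, ← e2, ← pow_add]
    rw [e2, e3, e4, ← lmat_oneM, hA] at hk
    simp only [killM, allBelow_eq_true, beq_iff_eq]
    intro i hi j hj
    have := congrFun (congrFun hk (⟨i, hi⟩ : Fin l4)) (⟨j, hj⟩ : Fin l4)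
    simpa [lmat, Matrix.add_apply, Matrix.smul_apply] using this
  rw [hbad _ h1 h2] at hn
  exact Bool.noConfusion hn

end Cfsg.Agent.F4Graph
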