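import Cfsg.Agent.Lib.CoxTorus.F4
import Mathlib.GroupTheory.PGroup

/-! Twelve proper subgroups cannot cover the eigenvectors of a regular twist in F4. -/

set_option autoImplicit false
set_option maxRecDepth 20000


namespace Cfsg.Agent.F4Graph

open Cfsg.Lie Cfsg.Agent.Chev Cfsg.Agent.Chev.Tab Cfsg.Agent.ChevAut Cfsg.Agent.CoxTorus Matrix
  Polynomial

local notation "l4" => F4Data.tab.l
local notation "n4" => F4Data.tab.n

/-- The roots as vectors. -/
def rootVecs : Finset (Fin l4 → ℤ) := (Finset.range n4).image (avec F4Data.tab)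

theorem neg_root : ∀ s < n4, ∃ t < n4, ∀ j : Fin l4, avec F4Data.tab t j + avec F4Data.tab s j = 0 := by
  decide +kernel

/-- Independent roots have a small nonzero minor. -/
theorem small_minor : ∀ s < n4, ∀ t < n4,
    (∀ j : Fin l4, avec F4Data.tab t j - avec F4Data.tab s j = 0) ∨
    (∀ j : Fin l4, avec F4Data.tab t j + avec F4Data.tab s j = 0) ∨
    ∃ a b : Fin l4, (avec F4Data.tab s a * avec F4Data.tab t b -
        avec F4Data.tab s b * avec F4Data.tab t a).natAbs - 1 < 12 ∧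
      1 ≤ (avec F4Data.tab s a * avec F4Data.tab t b -
        avec F4Data.tab s b * avec F4Data.tab t a).natAbs := by
  decide +kernel

theorem mem_rootVecs {α : Fin l4 → ℤ} : α ∈ rootVecs ↔ ∃ s < n4, avec F4Data.tab s = α := by
  simp only [rootVecs, Finset.mem_image, Finset.mem_range]

theorem card_rootVecs : rootVecs.card ≤ 48 := by
  rw [rootVecs]
  refine Finset.card_image_le.trans ?_
  rw [Finset.card_range]
  decide +kernel

theorem neg_mem_rootVecs {α : Fin l4 → ℤ} (h : α ∈ rootVecs) : -α ∈ rootVecs := by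
  obtain ⟨s, hs, rfl⟩ := mem_rootVecs.1 h
  obtain ⟨t, ht, e⟩ := neg_root s hs
  exact mem_rootVecs.2 ⟨t, ht, funext fun j => eq_neg_of_add_eq_zero_left (e j)⟩

theorem mulVec_mem_rootVecs {L : List ℕ} (hL : F4Data.tab.Wd L) {α : Fin l4 → ℤ} (h : α ∈ rootVecs) :
    wmat F4Data.tab L *ᵥ α ∈ rootVecs := by
  obtain ⟨s, hs, rfl⟩ := mem_rootVecs.1 h
  rw [wmat_avec CoxTorus.F4.gA.toGood hL hs]
  exact mem_rootVecs.2 ⟨_, rw'_lt CoxTorus.F4.gA.toGood hL hs, rfl⟩

theorem root_ne_neg {α : Fin l4 → ℤ} (h : α ∈ rootVecs) : α ≠ -α := fun e => by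
  obtain ⟨s, hs, rfl⟩ := mem_rootVecs.1 h
  refine avec_ne_zero CoxTorus.F4.gA.toGood hs (funext fun j => ?_)
  have := congrFun e j
  simp only [Pi.neg_apply] at this
  simp only [Pi.zero_apply]
  omega

theorem image_ne {B : ℤ} (hB : B.natAbs ≤ 1) {A : Matrix (Fin l4) (Fin l4) ℤ}
    (hmul : A * A + B • A + 1 = 0) {α : Fin l4 → ℤ} (hα : α ∈ rootVecs) :
    A *ᵥ α ≠ α ∧ A *ᵥ α ≠ -α := by
  obtain ⟨s, hs, rfl⟩ := mem_rootVecs.1 hα
  obtain ⟨j, hj⟩ := Function.ne_iff.1 (avec_ne_zero CoxTorus.F4.gA.toGood hs)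
  have h := congrFun (congrArg (· *ᵥ avec F4Data.tab s) hmul) j
  simp only [add_mulVec, ← mulVec_mulVec, smul_mulVec, one_mulVec, zero_mulVec] at h
  constructor <;> intro e
  · rw [e, e] at h
    simp only [Pi.add_apply, Pi.smul_apply, smul_eq_mul, Pi.zero_apply] at h
    have : (2 + B) * avec F4Data.tab s j = 0 := by linarith
    rcases mul_eq_zero.1 this with h' | h'
    · omega
    · exact hj h'
  · rw [e, mulVec_neg, e, _root_.neg_neg] at h
    simp only [Pi.add_apply, Pi.smul_apply, smul_eq_mul, Pi.neg_apply, Pi.zero_apply] at h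
    have : (2 - B) * avec F4Data.tab s j = 0 := by linarith
    rcases mul_eq_zero.1 this with h' | h'
    · omega
    · exact hj h'

/-- A function on the roots invariant under negation and `A` takes at most twelve values. -/
theorem card_values {β : Type*} [DecidableEq β] {B : ℤ} (hB : B.natAbs ≤ 1) {L : List ℕ}
    (hL : F4Data.tab.Wd L) (hmul : wmat F4Data.tab L * wmat F4Data.tab L + B • wmat F4Data.tab L + 1 = 0)
    (f : (Fin l4 → ℤ) → β) (hneg : ∀ α, f (-α) = f α) (hA : ∀ α, f (wmat F4Data.tab L *ᵥ α) = f α) :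
    4 * (rootVecs.image f).card ≤ 48 := by
  refine le_trans ?_ card_rootVecs
  rw [Finset.card_eq_sum_card_image f rootVecs, mul_comm, ← smul_eq_mul]
  refine Finset.card_nsmul_le_sum _ _ _ fun y hy => ?_
  obtain ⟨α, hα, rfl⟩ := Finset.mem_image.1 hy
  obtain ⟨h1, h2⟩ := image_ne hB hmul hα
  set A := wmat F4Data.tab L with hAdef
  have hAα := mulVec_mem_rootVecs hL hα
  rw [← hAdef] at hAα
  have hc : ({α, -α, A *ᵥ α, -(A *ᵥ α)} : Finset (Fin l4 → ℤ)).card = 4 := by
    rw [Finset.card_insert_of_notMem, Finset.card_insert_of_notMem,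
      Finset.card_pair (root_ne_neg hAα)]
    · simp only [Finset.mem_insert, Finset.mem_singleton, not_or]
      exact ⟨fun e => h2 e.symm, fun e => h1 (neg_injective e).symm⟩
    · simp only [Finset.mem_insert, Finset.mem_singleton, not_or]
      exact ⟨root_ne_neg hα, h1.symm, fun e => h2 (neg_eq_iff_eq_neg.1 e.symm)⟩
  rw [← hc]
  refine Finset.card_le_card fun x hx => ?_
  simp only [Finset.mem_insert, Finset.mem_singleton] at hx
  rw [Finset.mem_filter]
  rcases hx with rfl | rfl | rfl | rfl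
  exacts [⟨hα, rfl⟩, ⟨neg_mem_rootVecs hα, hneg _⟩, ⟨hAα, hA _⟩,
    ⟨neg_mem_rootVecs hAα, (hneg _).trans (hA _)⟩]

variable {r : ℕ} [hr : Fact r.Prime]

/-- Reduction modulo `r`. -/
def red (r : ℕ) (α : Fin l4 → ℤ) : Fin l4 → ZMod r := fun j => ((α j : ℤ) : ZMod r)

theorem red_mulVec (A : Matrix (Fin l4) (Fin l4) ℤ) (α : Fin l4 → ℤ) :
    (Int.castRingHom (ZMod r)).mapMatrix A *ᵥ red r α = red r (A *ᵥ α) :=
  funext fun j => (RingHom.map_mulVec (Int.castRingHom (ZMod r)) A α j).symm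

/-- No root is killed by all eigenvectors. -/
theorem root_not_killed {B : ℤ} (hB : B.natAbs ≤ 1) (h13 : 13 ≤ r) {L : List ℕ} (hL : F4Data.tab.Wd L)
    (hmul : wmat F4Data.tab L * wmat F4Data.tab L + B • wmat F4Data.tab L + 1 = 0)
    {a : ZMod r} (ha : a ^ 2 + (B : ZMod r) * a + 1 = 0) {α : Fin l4 → ℤ} (hα : α ∈ rootVecs) :
    ∃ γ : Fin l4 → ZMod r, γ ᵥ* (Int.castRingHom (ZMod r)).mapMatrix (wmat F4Data.tab L) = a • γ ∧
      γ ⬝ᵥ red r α ≠ 0 := by
  by_contra hcon
  push Not at hcon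
  set A := wmat F4Data.tab L with hAdef
  set Ab := (Int.castRingHom (ZMod r)).mapMatrix A with hAb
  set c : ZMod r := a + B with hc
  have hqc : a * c = -1 := by rw [hc]; linear_combination ha
  have hmulb : Ab * Ab + (B : ZMod r) • Ab + 1 = 0 := by
    have e := congrArg (Int.castRingHom (ZMod r)).mapMatrix hmul
    rwa [map_add, map_add, map_mul, map_zsmul, map_one, map_zero, ← hAb,
      ← Int.cast_smul_eq_zsmul (ZMod r)] at e
  have hPA : (Ab + c • (1 : Matrix (Fin l4) (Fin l4) (ZMod r))) * Ab =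
      a • (Ab + c • (1 : Matrix (Fin l4) (Fin l4) (ZMod r))) := by
    rw [add_mul, smul_one_mul, eq_neg_of_add_eq_zero_left ((add_assoc _ _ _).symm.trans hmulb),
      smul_add, smul_smul, hqc, hc, add_smul, neg_smul, one_smul]
    abel
  have hzero : (Ab + c • (1 : Matrix (Fin l4) (Fin l4) (ZMod r))) *ᵥ red r α = 0 := by
    refine funext fun i => ?_
    have e := hcon (Pi.single i 1 ᵥ* (Ab + c • (1 : Matrix (Fin l4) (Fin l4) (ZMod r))))
      (by rw [vecMul_vecMul, hPA, vecMul_smul])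
    rw [← dotProduct_mulVec, single_one_dotProduct] at e
    exact e
  rw [add_mulVec, smul_mulVec, one_mulVec, hAb, red_mulVec] at hzero
  obtain ⟨h1, h2⟩ := image_ne hB hmul hα
  obtain ⟨t, ht, hts⟩ := mem_rootVecs.1 (mulVec_mem_rootVecs hL hα)
  obtain ⟨s, hs, rfl⟩ := mem_rootVecs.1 hα
  rw [← hAdef] at hts
  rw [← hts] at h1 h2 hzero
  rcases small_minor s hs t ht with e | e | ⟨i, j, hlt, hpos⟩
  · exact h1 (funext fun j => sub_eq_zero.1 (e j))
  · exact h2 (funext fun j => eq_neg_of_add_eq_zero_left (e j))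
  have ea := congrFun hzero i
  have eb := congrFun hzero j
  simp only [Pi.add_apply, Pi.smul_apply, smul_eq_mul, Pi.zero_apply, red] at ea eb
  have hd : ((avec F4Data.tab s i * avec F4Data.tab t j -
      avec F4Data.tab s j * avec F4Data.tab t i : ℤ) : ZMod r) = 0 := by
    push_cast
    linear_combination ((avec F4Data.tab s i : ℤ) : ZMod r) * eb -
      ((avec F4Data.tab s j : ℤ) : ZMod r) * ea
  have := Nat.le_of_dvd hpos (Int.natCast_dvd.1 ((ZMod.intCast_zmod_eq_zero_iff_dvd _ r).1 hd))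
  omega

/-- The eigenspace. -/
def eigV (A : Matrix (Fin l4) (Fin l4) (ZMod r)) (a : ZMod r) : AddSubgroup (Fin l4 → ZMod r) :=
  (A.vecMulLinear - a • LinearMap.id).toAddMonoidHom.ker

theorem mem_eigV {A : Matrix (Fin l4) (Fin l4) (ZMod r)} {a : ZMod r} {γ : Fin l4 → ZMod r} :
    γ ∈ eigV A a ↔ γ ᵥ* A = a • γ := by
  simp [eigV, sub_eq_zero]

/-- Pairing with a root. -/
def pair (α : Fin l4 → ℤ) : (Fin l4 → ZMod r) →+ ZMod r where
  toFun γ := γ ⬝ᵥ red r α
  map_zero' := zero_dotProduct _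
  map_add' a b := add_dotProduct a b _

omit hr in
theorem subset_union {β ι : Type*} [DecidableEq β] {S : Finset β} {N : ℕ} {g : ℕ → ι}
    {I : Finset ι} {f : ι → Finset β} {P : β → ℕ → Prop} (hno : ¬ ∃ x ∈ S, ∀ s < N, ¬ P x s)
    (h : ∀ x ∈ S, ∀ s, s < N → P x s → g s ∈ I ∧ x ∈ f (g s)) : S ⊆ (I.image f).biUnion id := by
  intro x hx
  by_contra hcon
  refine hno ⟨x, hx, fun s hs hP => hcon ?_⟩
  exact Finset.mem_biUnion.2 ⟨_, Finset.mem_image_of_mem f (h x hx s hs hP).1, (h x hx s hs hP).2⟩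

theorem exists_avoid {q : ℕ} {B : ℤ} (hB : B.natAbs ≤ 1) (h13 : 13 ≤ r) {L : List ℕ}
    (hL : F4Data.tab.Wd L) (hA : aeval (wmat F4Data.tab L) (X ^ 2 + C B * X + 1 : ℤ[X]) = 0)
    (hq : (q : ZMod r) ^ 2 + (B : ZMod r) * q + 1 = 0)
    (S : Finset (Fin l4 → ZMod r))
    (hS : ∀ γ ∈ S, γ ᵥ* (Int.castRingHom (ZMod r)).mapMatrix (wmat F4Data.tab L) = (q : ZMod r) • γ)
    (hcard : r ^ 2 ≤ S.card)
    (hV : Nat.card {γ : Fin l4 → ZMod r //
      γ ᵥ* (Int.castRingHom (ZMod r)).mapMatrix (wmat F4Data.tab L) = (q : ZMod r) • γ} ≤ r ^ 2) :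
    ∃ γ ∈ S, ∀ s < n4, γ ⬝ᵥ red r (avec F4Data.tab s) ≠ 0 := by
  classical
  set A := wmat F4Data.tab L with hAdef
  set V := eigV ((Int.castRingHom (ZMod r)).mapMatrix A) (q : ZMod r) with hVdef
  let f : (Fin l4 → ℤ) → Finset (Fin l4 → ZMod r) := fun α =>
    Finset.univ.filter fun γ => γ ∈ V ∧ γ ⬝ᵥ red r α = 0
  have hmul : A * A + B • A + 1 = 0 := by
    simpa [map_add, map_mul, aeval_C, Algebra.algebraMap_eq_smul_one, smul_mul_assoc, pow_two] using hA
  have hVcard : Nat.card ↥V = r ^ 2 := by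
    refine le_antisymm ((le_of_eq (Nat.card_congr (Equiv.subtypeEquivRight fun γ => mem_eigV))).trans hV)
      (hcard.trans ?_)
    rw [← Nat.card_eq_finsetCard S]
    exact Nat.card_le_card_of_injective (fun γ : {x // x ∈ S} => (⟨γ.1, mem_eigV.2 (hS _ γ.2)⟩ : ↥V))
      fun a b e => Subtype.ext (Subtype.ext_iff.1 e :)
  have hVm : ∀ {γ}, γ ∈ V ↔ γ ᵥ* (Int.castRingHom (ZMod r)).mapMatrix A = (q : ZMod r) • γ := mem_eigV
  clear_value V
  have hnum := card_values hB hL hmul f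
    (fun α => Finset.filter_congr fun γ _ => by
      rw [show red r (-α) = -red r α from funext fun j => by simp [red], dotProduct_neg, neg_eq_zero])
    (fun α => Finset.filter_congr fun γ _ => by
      refine and_congr_right fun h => ?_
      rw [← hAdef, ← red_mulVec, dotProduct_mulVec, hVm.1 h, smul_dotProduct, smul_eq_zero,
        or_iff_right]
      intro h0
      rw [h0] at hq
      simp at hq)
  have hsmall : ∀ α ∈ rootVecs, (f α).card ≤ r := by
    intro α hα
    have hm : ∀ γ, γ ∈ V ⊓ (pair α).ker ↔ γ ∈ f α := fun γ => by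
      rw [AddSubgroup.mem_inf, AddMonoidHom.mem_ker]
      exact ⟨fun h => Finset.mem_filter.2 ⟨Finset.mem_univ _, h⟩, fun h => (Finset.mem_filter.1 h).2⟩
    have hKf : Nat.card ↥(V ⊓ (pair α).ker) = (f α).card :=
      (Nat.card_congr (Equiv.subtypeEquivRight hm)).trans (Nat.card_eq_finsetCard (f α))
    obtain ⟨i, hi, hKi⟩ := (Nat.dvd_prime_pow hr.out).1
      (hVcard ▸ AddSubgroup.card_dvd_of_le (inf_le_left : V ⊓ (pair α).ker ≤ V))
    rw [← hKf, hKi]
    rcases Nat.lt_or_ge i 2 with h2 | h2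
    · exact (Nat.pow_le_pow_right hr.out.pos (Nat.le_of_lt_succ h2)).trans (pow_one r).le
    exfalso
    have hKV : V ⊓ (pair α).ker = V := AddSubgroup.eq_of_le_of_card_ge inf_le_left (by
      rw [hVcard, hKi]; exact Nat.pow_le_pow_right hr.out.pos h2)
    obtain ⟨γ, hγ, hne⟩ := root_not_killed hB h13 hL hmul hq hα
    exact hne (inf_eq_left.1 hKV (hVm.2 hγ))
  by_contra hcon
  have hsub : S ⊆ (rootVecs.image f).biUnion id :=
    subset_union hcon fun γ hγ s hs e => ⟨mem_rootVecs.2 ⟨s, hs, rfl⟩,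
      Finset.mem_filter.2 ⟨Finset.mem_univ _, hVm.2 (hS γ hγ), e⟩⟩
  have h1 := ((hcard.trans (Finset.card_le_card hsub)).trans Finset.card_biUnion_le).trans
    (Finset.sum_le_card_nsmul _ _ r fun y hy => by
      obtain ⟨α, hα, rfl⟩ := Finset.mem_image.1 hy
      exact hsmall α hα)
  rw [smul_eq_mul, pow_two] at h1
  have h2 : r ≤ (rootVecs.image f).card := Nat.le_of_mul_le_mul_right h1 hr.out.pos
  omega

end Cfsg.Agent.F4Graph
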