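import Cfsg.Agent.Lib.F4Graph.Eigen
import Cfsg.Agent.Lib.F4Graph.Roots

/-! Regular semisimple elements of F4 and their centralisers. -/

set_option autoImplicit false
set_option maxRecDepth 20000

namespace Cfsg.Agent.F4Graph

open Cfsg.Lie Cfsg.Agent.Chev Cfsg.Agent.Chev.Tab Cfsg.Agent.ChevAut Cfsg.Agent.CoxTorus Matrix
  Polynomial

universe u

local notation "l4" => F4Data.tab.l
local notation "n4" => F4Data.tab.n

theorem le_card_torsion {G : Type*} [Group G] [Finite G] {a v r : ℕ} [Fact r.Prime] (hv : 0 < v)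
    (e : G ≃* (Fin a → Multiplicative (ZMod (r ^ v)))) : r ^ a ≤ Nat.card {z : G // z ^ r = 1} := by
  have hr : r.Prime := Fact.out
  haveI : NeZero (r ^ v) := ⟨pow_ne_zero _ hr.ne_zero⟩
  have hrv : r ^ (v - 1) * r = r ^ v := by rw [← pow_succ, Nat.sub_add_cancel hv]
  let g : (Fin a → Fin r) → {z : G // z ^ r = 1} := fun k =>
    ⟨e.symm fun i => Multiplicative.ofAdd ((r ^ (v - 1) * (k i : ℕ) : ℕ) : ZMod (r ^ v)), by
      rw [← map_pow]
      refine (MulEquiv.map_eq_one_iff _).2 (funext fun i => ?_)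
      rw [Pi.pow_apply, ← ofAdd_nsmul, Pi.one_apply, ofAdd_eq_one, nsmul_eq_mul, ← Nat.cast_mul,
        ZMod.natCast_eq_zero_iff, ← mul_assoc, mul_comm r, hrv]
      exact dvd_mul_right _ _⟩
  have hg : Function.Injective g := fun k k' h => funext fun i => by
    have h1 := congrFun (e.symm.injective (congrArg Subtype.val h)) i
    have h2 := (ZMod.natCast_eq_natCast_iff' _ _ _).1 (Multiplicative.ofAdd.injective h1)
    have hlt : ∀ k : Fin r, r ^ (v - 1) * (k : ℕ) < r ^ v := fun k => by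
      rw [← hrv]; exact Nat.mul_lt_mul_of_pos_left k.2 (pow_pos hr.pos _)
    rw [Nat.mod_eq_of_lt (hlt _), Nat.mod_eq_of_lt (hlt _)] at h2
    exact Fin.ext (Nat.eq_of_mul_eq_mul_left (pow_pos hr.pos _) h2)
  have := Nat.card_le_card_of_injective g hg
  rwa [Nat.card_eq_fintype_card, Fintype.card_fun, Fintype.card_fin, Fintype.card_fin] at this

theorem chi_ne_one {A : Type*} [CommGroup A] {r : ℕ} [Fact r.Prime] {u : Fin l4 → A} {ζ : A}
    (hζ : orderOf ζ = r) {γ : Fin l4 → ZMod r} (hγ : ∀ j, u j = ζ ^ (γ j).val) {α : Fin l4 → ℤ}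
    (h : γ ⬝ᵥ red r α ≠ 0) : chi u α ≠ 1 := by
  intro h1
  simp only [chi, hγ, ← zpow_natCast, ← _root_.zpow_mul] at h1
  rw [SylHom.prod_zpow_sum, ← orderOf_dvd_iff_zpow_eq_one, hζ, ← ZMod.intCast_zmod_eq_zero_iff_dvd,
    Int.cast_sum] at h1
  refine h ?_
  simpa [dotProduct, red] using h1

variable {F : Type u} {E : Type} [Field F] [Field E] [Fintype F] [Fintype E] {q d : ℕ} (X : Ext F E q d)

/-- The conclusion of `exists_twist`. -/
def HTw (h : GL F4Data.tab.D.Idx E) (L : List ℕ) : Prop :=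
  ∀ z c, h * emb X z * h⁻¹ = tor F4Data.tab E c →
    nWd gA.toGood E L * tor F4Data.tab E c * (nWd gA.toGood E L)⁻¹ = tor F4Data.tab E (c ^ q) ∧
      Twist (fun j : Fin l4 => c j) (wmat F4Data.tab L.reverse) q

/-- A regular element and the attached torus. -/
def Frame (x : ↥(F4Data.tab.D.group F)) (r k : ℕ) : Prop :=
  ∃ h ∈ F4Data.tab.D.group E, ∃ L, F4Data.tab.Wd L ∧ HTw X h L ∧ ∃ c,
    h * emb X x * h⁻¹ = tor F4Data.tab E c ∧ (∀ j < l4, c j ^ r = 1) ∧
    (∀ s < n4, wt F4Data.tab E c s ≠ 1) ∧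
    ∃ a, 0 < a ∧ (wmat F4Data.tab L.reverse).charpoly = cyclotomic k ℤ ^ a

/-- Elements of order `r` with `e(r) = 8` or `12` are regular. -/
theorem frame_big {r k : ℕ} [Fact r.Prime] (hk : orderOf (q : ZMod r) = k) (hk8 : 8 ≤ k)
    (hl : l4 = k.totient) (hkd : k ∣ d) {x : ↥(F4Data.tab.D.group F)} (hx : orderOf x = r) :
    Frame X x r k := by
  have hg := gA.toGood
  have hr : r.Prime := Fact.out
  obtain ⟨hprim, -, hlt⟩ := order_facts hk (by omega)
  have hrW := not_dvd_cardW hr (five_le hk (by omega))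
  have hx' : x ^ r = 1 := hx ▸ pow_orderOf_eq_one x
  have hE := X.dvd_pred hk hkd
  obtain ⟨h, hh, c, hcr, hc⟩ := exists_conj_tor gA CoxTorus.F4.dualOK hr hE hrW (emb_group X x)
    (by rw [← map_pow, hx', map_one])
  obtain ⟨L, hL, htw⟩ := exists_twist X hh
  have hu := (htw x c hc).2
  obtain ⟨ζ, hζ⟩ := exists_zeta hE
  obtain ⟨γ, hγ, he⟩ := exists_eigen hu (fun j => hcr j j.2) hζ
  obtain ⟨j₀, hj₀⟩ := coord_ne_one X hc (fun h1 => hr.one_lt.ne (by rw [← hx, h1, orderOf_one]))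
  have hdvd := cyclo_dvd hk (by omega) hL.reverse (gamma_ne_zero hγ hj₀) he
  have hchar := SylHom.eq_pow_of_dvd (d := k) (k := 1) (A := wmat F4Data.tab L.reverse)
    (by rw [one_mul]; exact hl.symm) (by rwa [pow_one])
  have hΦ : aeval (wmat F4Data.tab L.reverse) (cyclotomic k ℤ) = 0 := by
    rw [← pow_one (cyclotomic k ℤ), ← hchar]
    exact aeval_self_charpoly _
  refine ⟨h, hh, L, hL, htw, c, hc, hcr, fun s hs h1 => ?_, 1, one_pos, hchar⟩
  rw [wt_eq_chi] at h1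
  have hdet0 := krylov_det_ne_zero hl (by omega) hΦ (avec_ne_zero hg hs)
  have h2 := orderOf_dvd_iff_zpow_eq_one.2 (hu.coord_pow_det h1 j₀)
  rw [orderOf_eq_prime (hcr j₀ j₀.2) hj₀, Int.natCast_dvd] at h2
  have h3 := Nat.le_of_dvd (Int.natAbs_pos.2 hdet0) h2
  have h4 := CoxTorus.F4.detOK _ (krylov_col_root hg hL.reverse hs)
  omega

/-- A regular element of order `r` when `e(r) ∈ {3, 4, 6}`. -/
theorem exists_frame_mid {r k : ℕ} [Fact r.Prime] (hk : orderOf (q : ZMod r) = k) (hk3 : 3 ≤ k)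
    {B : ℤ} (hB : B.natAbs ≤ 1) (hΦ : cyclotomic k ℤ = (Polynomial.X : ℤ[X]) ^ 2 + C B * Polynomial.X + 1)
    (ht : k.totient = 2) (hdeg : (([2, 6, 8, 12] : List ℕ).filter fun e => decide (k ∣ e)).length = 2)
    (h13 : 13 ≤ r) (hrq : ¬ r ∣ q) (hrG : r ∣ Nat.card ↥(F4Data.tab.D.group F)) (hkd : k ∣ d) :
    ∃ x, orderOf x = r ∧ Frame X x r k := by
  classical
  have hg := gA.toGood
  have hr : r.Prime := Fact.out
  obtain ⟨hprim, -, hlt⟩ := order_facts hk (by omega)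
  have hrk : ¬ r ∣ k := Nat.not_dvd_of_pos_of_lt (by omega) hlt
  have hrW := not_dvd_cardW hr (by omega : 5 ≤ r)
  have hrP : ¬ r ∣ ([2, 6, 8, 12] : List ℕ).prod := by
    have := cardW ▸ hrW
    rwa [show ([2, 6, 8, 12] : List ℕ).prod = 1152 by norm_num]
  have hE := X.dvd_pred hk hkd
  haveI : Finite F := Finite.of_fintype F
  let P : Sylow r ↥(F4Data.tab.D.group F) := default
  obtain ⟨e⟩ := SylHom.sylow_homocyclic gA CoxTorus.F4.dualOK F4Data.torOK F4Data.chainOK F4Data.polyOK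
    (by decide +kernel) (one_dvd _) (one_dvd _) SylHom.boundF4 X.card_F r hrq hrP hrG P
  rw [hk] at e
  rw [hdeg] at e
  have hv : 0 < padicValNat r ((cyclotomic k ℤ).eval (q : ℤ)).natAbs := by
    refine one_le_padicValNat_of_dvd (Int.natAbs_ne_zero.2 (cyclotomic_pos (by omega) _).ne') ?_
    exact Int.natCast_dvd.1 ((SylHom.dvd_cyclotomic_iff hrk).2 hprim)
  have htor := le_card_torsion hv e
  let ι' : ↥(F4Data.tab.D.group F) →* ↥(F4Data.tab.D.group E) := (emb X).codRestrict _ (emb_group X)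
  obtain ⟨h, hh, hdiag⟩ := SylHom.exists_diag_conj gA hE hrW (P.isPGroup'.map ι')
  obtain ⟨L, hL, htw⟩ := exists_twist X hh
  obtain ⟨ζ, hζ⟩ := exists_zeta hE
  let A := {z : ↥(P : Subgroup ↥(F4Data.tab.D.group F)) // z ^ r = 1}
  haveI : Fintype A := Fintype.ofFinite A
  have hex : ∀ z : A, ∃ c γ, h * emb X z.1.1 * h⁻¹ = tor F4Data.tab E c ∧ (∀ j < l4, c j ^ r = 1) ∧
      (∀ j : Fin l4, c j = ζ ^ (γ j).val) ∧
      γ ᵥ* (Int.castRingHom (ZMod r)).mapMatrix (wmat F4Data.tab L.reverse) = (q : ZMod r) • γ := by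
    intro z
    obtain ⟨c, hc⟩ := hdiag (ι' z.1.1) ⟨z.1.1, z.1.2, rfl⟩
    have hc' : h * emb X z.1.1 * h⁻¹ = tor F4Data.tab E c := hc
    have hz : z.1.1 ^ r = 1 := by rw [← SubmonoidClass.coe_pow, z.2, OneMemClass.coe_one]
    obtain ⟨γ, hγ, he⟩ := exists_eigen (htw _ c hc').2 (fun j => coords X hc' hz j.2) hζ
    exact ⟨c, γ, hc', fun j hj => coords X hc' hz hj, hγ, he⟩
  choose c γ hc hcr hγ he using hex
  have hinj : Function.Injective γ := fun z w e => by
    refine Subtype.ext (Subtype.ext (emb_inj X (mul_left_cancel (a := h) (mul_right_cancel (b := h⁻¹) ?_))))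
    rw [hc, hc]
    exact tor_congr hg fun j hj => by rw [hγ z ⟨j, hj⟩, hγ w ⟨j, hj⟩, e]
  set S := Finset.univ.image γ with hS
  have hScard : r ^ 2 ≤ S.card := by
    rwa [hS, Finset.card_image_of_injective _ hinj, Finset.card_univ, ← Nat.card_eq_fintype_card]
  obtain ⟨b, hb, hbcard⟩ := SylHom.card_eigen_le (A := wmat F4Data.tab L.reverse) (q := q) Nat.card_pos
    hrW (wmat_pow_W hL.reverse) hprim hrk
  have hb2 : b ≤ 2 := by
    have h1 := SylHom.mul_totient_le hb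
    have h2 := four_eq
    rw [ht] at h1
    omega
  have hSb : r ^ 2 ≤ r ^ b := hScard.trans (le_trans ?_ hbcard)
  swap
  · rw [← Nat.card_eq_finsetCard S]
    refine Nat.card_le_card_of_injective (fun g : {x // x ∈ S} => ⟨g.1, ?_⟩) fun a b e =>
      Subtype.ext (Subtype.ext_iff.1 e :)
    obtain ⟨z, -, hz⟩ := Finset.mem_image.1 g.2
    rw [← hz]; exact he z
  obtain rfl : b = 2 := le_antisymm hb2 ((Nat.pow_le_pow_iff_right hr.one_lt).1 hSb)
  have hchar := SylHom.eq_pow_of_dvd (k := 2) (by rw [ht]; exact four_eq.symm) hb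
  have hA : aeval (wmat F4Data.tab L.reverse) (cyclotomic k ℤ) = 0 :=
    SylHom.aeval_eq_zero_of_pow Nat.card_pos (wmat_pow_W hL.reverse) (k := 2)
      (by rw [← hchar]; exact aeval_self_charpoly _)
  have hq : (q : ZMod r) ^ 2 + (B : ZMod r) * q + 1 = 0 := by
    have h1 := (ZMod.intCast_zmod_eq_zero_iff_dvd _ r).2 ((SylHom.dvd_cyclotomic_iff hrk).2 hprim)
    rw [hΦ] at h1
    simpa using h1
  rw [hΦ] at hA
  obtain ⟨g, hgS, hav⟩ := exists_avoid hB h13 hL.reverse hA hq S (fun g hgS => by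
    obtain ⟨z, -, rfl⟩ := Finset.mem_image.1 hgS
    exact he z) hScard hbcard
  obtain ⟨z, -, rfl⟩ := Finset.mem_image.1 hgS
  have hreg : ∀ s < n4, wt F4Data.tab E (c z) s ≠ 1 := fun s hs => by
    rw [wt_eq_chi]
    exact chi_ne_one hζ (hγ z) (hav s hs)
  refine ⟨z.1.1, orderOf_eq_prime (by rw [← SubmonoidClass.coe_pow, z.2, OneMemClass.coe_one]) ?_,
    h, hh, L, hL, htw, c z, hc z, hcr z, hreg, 2, two_pos, hchar⟩
  intro h1
  have h0 := hc z
  rw [h1, map_one, mul_one, mul_inv_cancel] at h0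
  refine hreg (F4Data.tab.smp 0) (hg.smp_lt (by decide +kernel)) ?_
  refine Finset.prod_eq_one fun j hj => ?_
  rw [← tor_inj hg CoxTorus.F4.dualOK ((map_one _).trans h0) (Finset.mem_range.1 hj), Pi.one_apply,
    _root_.one_zpow]

/-- A regular element commutes with an element of order `s` when `e(s) = k`. -/
theorem Frame.exists_mul {x : ↥(F4Data.tab.D.group F)} {r k : ℕ} [Fact r.Prime] (hf : Frame X x r k)
    (hrW : ¬ r ∣ Nat.card (wG gA.toGood)) (hx : orderOf x = r) {s : ℕ} [Fact s.Prime] (hrs : r ≠ s)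
    (hks : orderOf (q : ZMod s) = k) (hk0 : k ≠ 0) (hkd : k ∣ d) :
    ∃ y : ↥(F4Data.tab.D.group F), orderOf y = r * s := by
  have hg := gA.toGood
  obtain ⟨h, hh, L, hL, htw, c, hc, hcr, hreg, a, ha, hchar⟩ := hf
  obtain ⟨u, hu, hus, j, hj⟩ := exists_twist_elt (E := E) hks hk0 ha hchar (X.dvd_pred hks hkd)
  obtain ⟨z, hcomm, hz⟩ := (regular_centralizer X hrW hh hL htw hc hcr hreg).2 u hu
  have hzs : orderOf z = s := by
    refine orderOf_eq_prime (emb_inj X ?_) fun h1 => hj ?_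
    · rw [map_pow, map_one, ← conj_eq_one_iff (a := h), ← conj_pow, hz, ← map_pow]
      refine (tor_congr hg (d := 1) fun i hi => ?_).trans (map_one _)
      rw [Pi.pow_apply, Pi.one_apply, show extC F4Data.tab E u i = u ⟨i, hi⟩ by simp [extC, hi]]
      exact hus _
    · rw [h1, map_one, mul_one, mul_inv_cancel] at hz
      have h2 := tor_inj hg CoxTorus.F4.dualOK ((map_one _).trans hz) j.2
      rw [Pi.one_apply, show extC F4Data.tab E u j = u j by simp [extC, j.2]] at h2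
      exact h2.symm
  refine ⟨x * z, ?_⟩
  rw [hcomm.orderOf_mul_eq_mul_orderOf_of_coprime
    (by rw [hx, hzs]; exact (Nat.coprime_primes Fact.out Fact.out).2 hrs), hx, hzs]

/-- Orders of elements commuting with a regular element. -/
theorem Frame.dvd_eval {x : ↥(F4Data.tab.D.group F)} {r k : ℕ} [Fact r.Prime] (hf : Frame X x r k)
    (hrW : ¬ r ∣ Nat.card (wG gA.toGood)) {z : ↥(F4Data.tab.D.group F)} {p : ℕ} [Fact p.Prime]
    (hz : orderOf z = p) (hcomm : Commute x z) : (p : ℤ) ∣ (cyclotomic k ℤ).eval (q : ℤ) := by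
  obtain ⟨h, hh, L, hL, htw, c, hc, hcr, hreg, a, ha, hchar⟩ := hf
  obtain ⟨e, he⟩ := (regular_centralizer X hrW hh hL htw hc hcr hreg).1 z hcomm
  have hp : p.Prime := Fact.out
  obtain ⟨j, hj⟩ := coord_ne_one X he (fun h1 => hp.one_lt.ne (by rw [← hz, h1, orderOf_one]))
  have hA : aeval (wmat F4Data.tab L.reverse) (cyclotomic k ℤ) = 0 :=
    SylHom.aeval_eq_zero_of_pow Nat.card_pos (wmat_pow_W hL.reverse) (k := a)
      (by rw [← hchar]; exact aeval_self_charpoly _)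
  have h1 := (htw z e he).2.aeval (cyclotomic k ℤ) (Pi.single j 1)
  rw [hA, zero_mulVec, chi_zero, chi_single] at h1
  have h2 := orderOf_dvd_iff_zpow_eq_one.2 h1.symm
  rwa [orderOf_eq_prime (coords X he (hz ▸ pow_orderOf_eq_one z) j.2) hj] at h2

end Cfsg.Agent.F4Graph
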