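import Cfsg.Agent.Lib.F4Graph.Levi
import Cfsg.Agent.Lib.F4Graph.Regular
import Cfsg.Agent.Lib.F4Graph.Weyl

/-! The prime graph of F4 in characteristic two. -/

set_option autoImplicit false
set_option maxRecDepth 20000

namespace Cfsg.Agent.F4Graph

open Cfsg.Lie Cfsg.Agent.Chev Cfsg.Agent.Chev.Tab Cfsg.Agent.ChevAut Cfsg.Agent.CoxTorus Matrix
  Polynomial

universe u

local notation "l4" => F4Data.tab.l

variable {F : Type u} [Field F] [Fintype F] {q : ℕ}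

/-- The order of `q` modulo the prime `r`. -/
noncomputable abbrev eo (q r : ℕ) : ℕ := orderOf (q : ZMod r)

theorem eo_mem (hF : Fintype.card F = q) {r : ℕ} [Fact r.Prime] (hrq : ¬ r ∣ q)
    (hrG : r ∣ Nat.card ↥(F4Data.tab.D.group F)) : eo q r ∈ [1, 2, 3, 4, 6, 8, 12] := by
  have hr : r.Prime := Fact.out
  have h := card_group_formula (F := F) gA hF F4Data.torOK F4Data.chainOK F4Data.polyOK
  rw [show F4Data.cert.k = 0 from rfl, pow_zero, one_mul] at h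
  rw [h] at hrG
  rcases hr.dvd_mul.1 hrG with h1 | h1
  · exact absurd (hr.dvd_of_dvd_pow h1) hrq
  obtain ⟨a, ha, h2⟩ := (Nat.prime_iff.1 hr).dvd_prod_iff.1 h1
  obtain ⟨e, he, rfl⟩ := List.mem_map.1 ha
  have hq1 : 1 ≤ q := hF ▸ Fintype.card_pos
  have hdvd : eo q r ∣ e := (SylHom.pow_sub_one_dvd_iff (IsPrimitiveRoot.orderOf _) hq1).1 h2
  revert hdvd
  generalize eo q r = k
  intro hdvd
  simp only [List.mem_cons, List.not_mem_nil, or_false] at he ⊢
  have hk := Nat.le_of_dvd (by omega) hdvd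
  rcases he with rfl | rfl | rfl | rfl <;> interval_cases k <;> omega

theorem dvd_sq_sub_one (hq1 : 1 ≤ q) {r : ℕ} [Fact r.Prime] (h : eo q r = 1 ∨ eo q r = 2) :
    r ∣ q ^ 2 - 1 := by
  rw [SylHom.pow_sub_one_dvd_iff (IsPrimitiveRoot.orderOf _) hq1]
  rcases h with h | h <;> rw [show orderOf (q : ZMod r) = _ from h] <;> norm_num

theorem adjacent_small [CharP F 2] (hF : Fintype.card F = q) {r s : ℕ} (hr : r.Prime) (hs : s.Prime)
    (hrs : r ≠ s) (h1 : r = 2 ∨ eo q r = 1 ∨ eo q r = 2)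
    (h2 : s = 2 ∨ eo q s ∈ [1, 2, 3, 4, 6]) :
    ∃ x : ↥(F4Data.tab.D.group F), orderOf x = r * s := by
  haveI := Fact.mk hr
  haveI := Fact.mk hs
  have hq1 : 1 ≤ q := hF ▸ Fintype.card_pos
  subst hF
  refine exists_small_pair hr hs hrs (h1.imp id (dvd_sq_sub_one hq1)) (h2.imp id fun h => ?_)
  simp only [List.mem_cons, List.not_mem_nil, or_false] at h
  have key : ∀ e, eo (Fintype.card F) s ∣ e → s ∣ Fintype.card F ^ e - 1 := fun e he =>
    (SylHom.pow_sub_one_dvd_iff (IsPrimitiveRoot.orderOf _) hq1).2 he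
  rcases h with h | h | h | h | h
  · exact dvd_mul_of_dvd_left (dvd_mul_of_dvd_left (key 2 (h ▸ one_dvd _)) _) _
  · exact dvd_mul_of_dvd_left (dvd_mul_of_dvd_left (key 2 (h ▸ dvd_rfl)) _) _
  · exact dvd_mul_of_dvd_right (key 6 (h ▸ by norm_num)) _
  · exact dvd_mul_of_dvd_left (dvd_mul_of_dvd_right (key 4 (h ▸ dvd_rfl)) _) _
  · exact dvd_mul_of_dvd_right (key 6 (h ▸ dvd_rfl)) _

theorem thirteen_le {r s k : ℕ} (hk : k = 3 ∨ k = 4 ∨ k = 6) (hr : r.Prime) (hs : s.Prime) (hsr : s < r)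
    (h1 : k ∣ r - 1) (h2 : k ∣ s - 1) : 13 ≤ r := by
  by_contra h
  push Not at h
  have := hr.two_le
  have := hs.two_le
  rcases hk with rfl | rfl | rfl <;> interval_cases r <;> interval_cases s <;>
    first | omega | (revert hr hs; norm_num)

theorem mid_data {k : ℕ} (hk : k = 3 ∨ k = 4 ∨ k = 6) :
    ∃ B : ℤ, B.natAbs ≤ 1 ∧ cyclotomic k ℤ = (Polynomial.X : ℤ[X]) ^ 2 + C B * Polynomial.X + 1 ∧
      k.totient = 2 ∧ (([2, 6, 8, 12] : List ℕ).filter fun e => decide (k ∣ e)).length = 2 := by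
  rcases hk with rfl | rfl | rfl
  · exact ⟨1, le_rfl, by rw [cyclotomic_three]; simp, by decide +kernel, by decide +kernel⟩
  · exact ⟨0, Nat.zero_le _, by rw [SylHom.cyclotomic_four]; simp, by decide +kernel, by decide +kernel⟩
  · exact ⟨-1, le_rfl, by rw [SylHom.cyclotomic_six']; simp [sub_eq_add_neg], by decide +kernel,
      by decide +kernel⟩

/-- Adjacency when `e(r) = e(s) ≥ 3`. -/
theorem adjacent_same (hF : Fintype.card F = q) {r s k : ℕ} (hr : r.Prime) (hs : s.Prime)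
    (hrs : r ≠ s) (hk : k ∈ [3, 4, 6, 8, 12]) (hkr : eo q r = k) (hks : eo q s = k)
    (hrG : r ∣ Nat.card ↥(F4Data.tab.D.group F)) (hsG : s ∣ Nat.card ↥(F4Data.tab.D.group F))
    (hrq : ¬ r ∣ q) (hsq : ¬ s ∣ q) :
    ∃ x : ↥(F4Data.tab.D.group F), orderOf x = r * s := by
  wlog hsr : s < r generalizing r s
  · obtain ⟨x, hx⟩ := this hs hr hrs.symm hks hkr hsG hrG hsq hrq (by omega)
    exact ⟨x, hx.trans (mul_comm _ _)⟩
  haveI := Fact.mk hr
  haveI := Fact.mk hs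
  haveI : Finite F := Finite.of_fintype F
  simp only [List.mem_cons, List.not_mem_nil, or_false] at hk
  obtain ⟨E, _, _, ⟨X⟩⟩ := exists_ext hF (d := k) (by omega)
  have hrW := not_dvd_cardW hr (five_le hkr (by omega))
  obtain ⟨x, hx, hf⟩ : ∃ x, orderOf x = r ∧ Frame X x r k := by
    rcases (by omega : (k = 3 ∨ k = 4 ∨ k = 6) ∨ (k = 8 ∨ k = 12)) with h | h
    · obtain ⟨B, hB, hΦ, ht, hdeg⟩ := mid_data h
      exact exists_frame_mid X hkr (by omega) hB hΦ ht hdeg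
        (thirteen_le h hr hs hsr (order_facts hkr (by omega)).2.1 (order_facts hks (by omega)).2.1)
        hrq hrG dvd_rfl
    · obtain ⟨x, hx⟩ := exists_prime_orderOf_dvd_card' (G := ↥(F4Data.tab.D.group F)) r hrG
      refine ⟨x, hx, frame_big X hkr (by omega) ?_ dvd_rfl hx⟩
      rw [four_eq]
      rcases h with rfl | rfl <;> decide +kernel
  exact hf.exists_mul X hrW hx hrs hks (by omega) dvd_rfl

theorem zmod3_eval : ∀ a : ZMod 3, a = 0 ∨ a ^ 4 - a ^ 2 + 1 ≠ 0 := by decide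

theorem eval_ne {l r : ℕ} (hl : l = 8 ∨ l = 12) [Fact r.Prime] (hrq : r = 2 ↔ r ∣ q)
    (hrl : r = 2 ∨ eo q r ≠ l) : ¬ (r : ℤ) ∣ (cyclotomic l ℤ).eval (q : ℤ) := by
  have hr : r.Prime := Fact.out
  intro h
  have h0 : (cyclotomic l (ZMod r)).eval (q : ZMod r) = 0 := by
    rw [← map_cyclotomic l (Int.castRingHom (ZMod r)), ← map_natCast (Int.castRingHom (ZMod r)) q,
      eval_map, eval₂_at_apply]
    exact (ZMod.intCast_zmod_eq_zero_iff_dvd _ r).2 h
  by_cases h2 : r = 2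
  · rw [(ZMod.natCast_eq_zero_iff q r).2 (hrq.1 h2), ← coeff_zero_eq_eval_zero,
      cyclotomic_coeff_zero _ (by omega)] at h0
    exact one_ne_zero h0
  by_cases hd : r ∣ l
  · rcases hl with rfl | rfl
    · exact h2 ((Nat.prime_dvd_prime_iff_eq hr Nat.prime_two).1
        (hr.dvd_of_dvd_pow (show r ∣ 2 ^ 3 by norm_num; exact hd)))
    · obtain rfl : r = 3 := by
        rcases hr.dvd_mul.1 (show r ∣ 2 ^ 2 * 3 by norm_num; exact hd) with h' | h'
        · exact absurd ((Nat.prime_dvd_prime_iff_eq hr Nat.prime_two).1 (hr.dvd_of_dvd_pow h')) h2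
        · exact (Nat.prime_dvd_prime_iff_eq hr Nat.prime_three).1 h'
      have e : cyclotomic 12 (ZMod 3) = Polynomial.X ^ 4 - Polynomial.X ^ 2 + 1 := by
        have h6 := cyclotomic_expand_eq_cyclotomic (p := 2) (n := 6) Nat.prime_two (by norm_num) ℤ
        rw [SylHom.cyclotomic_six', map_add, map_sub, map_pow, expand_X, map_one, ← pow_mul,
          show (6 * 2 : ℕ) = 12 from rfl] at h6
        rw [← map_cyclotomic 12 (Int.castRingHom (ZMod 3)), ← h6]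
        simp
      rw [e] at h0
      simp only [eval_add, eval_sub, eval_pow, eval_X, eval_one] at h0
      exact (zmod3_eval (q : ZMod 3)).elim
        (fun h' => h2 (hrq.2 ((ZMod.natCast_eq_zero_iff q 3).1 h'))) fun h' => h' h0
  · exact (hrl.resolve_left h2) (((SylHom.dvd_cyclotomic_iff hd).1 h).eq_orderOf).symm

/-- Non-adjacency for `e(s) ∈ {8, 12}`. -/
theorem not_adjacent_big (hF : Fintype.card F = q) {r s l : ℕ} (hr : r.Prime) (hs : s.Prime)
    (hl : l = 8 ∨ l = 12) (hls : eo q s = l) (hrq : r = 2 ↔ r ∣ q) (hrl : r = 2 ∨ eo q r ≠ l) :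
    ¬ ∃ x : ↥(F4Data.tab.D.group F), orderOf x = r * s := by
  rintro ⟨x, hx⟩
  haveI := Fact.mk hr
  haveI := Fact.mk hs
  obtain ⟨E, _, _, ⟨X⟩⟩ := exists_ext hF (d := l) (by omega)
  have h1 : orderOf (x ^ r) = s := by
    rw [orderOf_pow_of_dvd hr.ne_zero (hx ▸ dvd_mul_right r s), hx, Nat.mul_div_cancel_left _ hr.pos]
  have h2 : orderOf (x ^ s) = r := by
    rw [orderOf_pow_of_dvd hs.ne_zero (hx ▸ dvd_mul_left s r), hx, Nat.mul_div_cancel _ hs.pos]
  have hf : Frame X (x ^ r) s l := frame_big X hls (by omega)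
    (by rw [four_eq]; rcases hl with rfl | rfl <;> decide +kernel) dvd_rfl h1
  exact eval_ne hl hrq hrl (hf.dvd_eval X (not_dvd_cardW hs (five_le hls (by omega))) h2
    (Commute.pow_pow (Commute.refl x) r s))

theorem mul_dvd_of_distinct {P : ℤ[X]} {k l : ℕ} (hk : 0 < k) (hkl : k ≠ l)
    (ht : k.totient = l.totient) (h1 : cyclotomic k ℤ ∣ P) (h2 : cyclotomic l ℤ ∣ P) :
    cyclotomic k ℤ * cyclotomic l ℤ ∣ P := by
  obtain ⟨P', rfl⟩ := h2
  rcases (cyclotomic.irreducible hk).prime.dvd_or_dvd h1 with h | h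
  · refine absurd ?_ hkl
    refine cyclotomic_injective (R := ℤ) (eq_of_monic_of_dvd_of_natDegree_le (cyclotomic.monic k ℤ)
      (cyclotomic.monic l ℤ) h ?_).symm
    rw [natDegree_cyclotomic, natDegree_cyclotomic, ht]
  · rw [mul_comm (cyclotomic k ℤ)]
    exact mul_dvd_mul_left _ h

theorem product_excluded {k l : ℕ} (h : (k = 3 ∧ l = 4) ∨ (k = 3 ∧ l = 6) ∨ (k = 4 ∧ l = 6)) {L : List ℕ}
    (hL : F4Data.tab.Wd L) : (wmat F4Data.tab L).charpoly ≠ cyclotomic k ℤ * cyclotomic l ℤ := by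
  rcases h with ⟨rfl, rfl⟩ | ⟨rfl, rfl⟩ | ⟨rfl, rfl⟩
  · refine fun e => charpoly_ne hL (a₃ := 1) (a₂ := 2) (a₁ := 1) (a₀ := 1)
      (fun M h1 h2 => by simp [badM, h1, h2]) (e.trans ?_)
    rw [cyclotomic_three, SylHom.cyclotomic_four]
    simp only [map_one, map_ofNat]
    ring
  · refine fun e => charpoly_ne hL (a₃ := 0) (a₂ := 1) (a₁ := 0) (a₀ := 1)
      (fun M h1 h2 => by simp [badM, h1, h2]) (e.trans ?_)
    rw [cyclotomic_three, SylHom.cyclotomic_six']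
    simp only [map_one, map_zero]
    ring
  · refine fun e => charpoly_ne hL (a₃ := -1) (a₂ := 2) (a₁ := -1) (a₀ := 1)
      (fun M h1 h2 => by simp [badM, h1, h2]) (e.trans ?_)
    rw [SylHom.cyclotomic_four, SylHom.cyclotomic_six']
    simp only [map_one, map_neg, map_ofNat]
    ring

/-- Non-adjacency for two different values of `e` in `{3, 4, 6}`. -/
theorem not_adjacent_mid (hF : Fintype.card F = q) {r s k l : ℕ} (hr : r.Prime) (hs : s.Prime)
    (hkl : (k = 3 ∧ l = 4) ∨ (k = 3 ∧ l = 6) ∨ (k = 4 ∧ l = 6)) (hkr : eo q r = k) (hls : eo q s = l) :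
    ¬ ∃ x : ↥(F4Data.tab.D.group F), orderOf x = r * s := by
  rintro ⟨x, hx⟩
  haveI := Fact.mk hr
  haveI := Fact.mk hs
  have hg := gA.toGood
  obtain ⟨E, _, _, ⟨X⟩⟩ := exists_ext hF (d := 12) (by omega)
  have hs' : orderOf (x ^ r) = s := by
    rw [orderOf_pow_of_dvd hr.ne_zero (hx ▸ dvd_mul_right r s), hx, Nat.mul_div_cancel_left _ hr.pos]
  have hr' : orderOf (x ^ s) = r := by
    rw [orderOf_pow_of_dvd hs.ne_zero (hx ▸ dvd_mul_left s r), hx, Nat.mul_div_cancel _ hs.pos]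
  have hk12 : k ∣ 12 := by rcases hkl with ⟨rfl, rfl⟩ | ⟨rfl, rfl⟩ | ⟨rfl, rfl⟩ <;> norm_num
  have hl12 : l ∣ 12 := by rcases hkl with ⟨rfl, rfl⟩ | ⟨rfl, rfl⟩ | ⟨rfl, rfl⟩ <;> norm_num
  have hrE := X.dvd_pred hkr hk12
  have hsE := X.dvd_pred hls hl12
  have hr1 : (x ^ s) ^ r = 1 := hr' ▸ pow_orderOf_eq_one _
  have hs1 : (x ^ r) ^ s = 1 := hs' ▸ pow_orderOf_eq_one _
  obtain ⟨h₁, hh₁, c, -, hc⟩ := exists_conj_tor gA CoxTorus.F4.dualOK hr hrE
    (not_dvd_cardW hr (five_le hkr (by omega))) (emb_group X (x ^ s)) (by rw [← map_pow, hr1, map_one])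
  let K : Subgroup (GL F4Data.tab.D.Idx E) :=
    F4Data.tab.D.group E ⊓ Subgroup.centralizer {tor F4Data.tab E c}
  have hD : F4Data.tab.D.diagonalSubgroup E ≤ K := by
    rw [diagonalSubgroup_eq hg]
    rintro _ ⟨e, rfl⟩
    exact Subgroup.mem_inf.2 ⟨tor_mem_group hg e, Subgroup.mem_centralizer_singleton_iff.2 (by rw [← map_mul, ← map_mul, mul_comm])⟩
  have hy : h₁ * emb X (x ^ r) * h₁⁻¹ ∈ K := by
    refine Subgroup.mem_inf.2 ⟨mul_mem (mul_mem hh₁ (emb_group X _)) (inv_mem hh₁), Subgroup.mem_centralizer_singleton_iff.2 ?_⟩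
    rw [← hc]
    exact (((Commute.pow_pow (Commute.refl x) r s).map (emb X)).map (MulAut.conj h₁).toMonoidHom).eq
  obtain ⟨h₂, hh₂, c', hc'⟩ := exists_conj_in hs hsE (not_dvd_cardW hs (five_le hls (by omega)))
    inf_le_left hD hy (by rw [conj_pow, ← map_pow, hs1, map_one]; group)
  have hh : h₂ * h₁ ∈ F4Data.tab.D.group E := mul_mem (Subgroup.mem_inf.1 hh₂).1 hh₁
  obtain ⟨L, hL, htw⟩ := exists_twist X hh
  have hca : h₂ * h₁ * emb X (x ^ s) * (h₂ * h₁)⁻¹ = tor F4Data.tab E c := by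
    have h1 := Subgroup.mem_centralizer_singleton_iff.1 (Subgroup.mem_inf.1 hh₂).2
    calc _ = h₂ * (h₁ * emb X (x ^ s) * h₁⁻¹) * h₂⁻¹ := by group
      _ = _ := by rw [hc, h1]; group
  have hcb : h₂ * h₁ * emb X (x ^ r) * (h₂ * h₁)⁻¹ = tor F4Data.tab E c' := by
    rw [← hc']; group
  have hdvd : ∀ {p m : ℕ} [Fact p.Prime] {z : ↥(F4Data.tab.D.group F)} {e : ℕ → Eˣ}, eo q p = m →
      3 ≤ m → p ∣ Fintype.card E - 1 → orderOf z = p →
      h₂ * h₁ * emb X z * (h₂ * h₁)⁻¹ = tor F4Data.tab E e →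
      cyclotomic m ℤ ∣ (wmat F4Data.tab L.reverse).charpoly := by
    intro p m _ z e hm hm3 hpE hz he
    have hp : p.Prime := Fact.out
    obtain ⟨ζ, hζ⟩ := exists_zeta hpE
    obtain ⟨γ, hγ, hγe⟩ := exists_eigen (htw z e he).2
      (fun j => coords X he (hz ▸ pow_orderOf_eq_one z) j.2) hζ
    obtain ⟨j, hj⟩ := coord_ne_one X he (fun h1 => hp.one_lt.ne (by rw [← hz, h1, orderOf_one]))
    exact cyclo_dvd hm hm3 hL.reverse (gamma_ne_zero hγ hj) hγe
  have ht : k.totient = 2 ∧ l.totient = 2 := by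
    rcases hkl with ⟨rfl, rfl⟩ | ⟨rfl, rfl⟩ | ⟨rfl, rfl⟩ <;> exact ⟨by decide +kernel, by decide +kernel⟩
  have hd := mul_dvd_of_distinct (by omega) (by omega) (ht.1.trans ht.2.symm)
    (hdvd hkr (by omega) hrE hr' hca) (hdvd hls (by omega) hsE hs' hcb)
  refine product_excluded hkl hL.reverse (eq_of_monic_of_dvd_of_natDegree_le
    ((cyclotomic.monic k ℤ).mul (cyclotomic.monic l ℤ)) (charpoly_monic _) hd ?_)
  rw [natDegree_mul (cyclotomic_ne_zero k ℤ) (cyclotomic_ne_zero l ℤ), natDegree_cyclotomic,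
    natDegree_cyclotomic, charpoly_natDegree_eq_dim, Fintype.card_fin, ht.1, ht.2, four_eq]

theorem main [CharP F 2] {n : ℕ} (hn : 1 ≤ n) (hF : Fintype.card F = q) (hq : q = 2 ^ n) (r s : ℕ)
    (hr : r.Prime) (hs : s.Prime) (hrs : r ≠ s) (hrG : r ∣ Nat.card ↥(F4Data.tab.D.group F))
    (hsG : s ∣ Nat.card ↥(F4Data.tab.D.group F)) :
    (¬ ∃ x : ↥(F4Data.tab.D.group F), orderOf x = r * s) ↔
      ((r = 2 ∧ eo q s ∈ ({8, 12} : Finset ℕ)) ∨ (s = 2 ∧ eo q r ∈ ({8, 12} : Finset ℕ)) ∨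
       (r ≠ 2 ∧ s ≠ 2 ∧
         ((eo q r < eo q s ∧ (eo q s ∈ ({8, 12} : Finset ℕ) ∨ (eo q s = 6 ∧ eo q r ∈ ({3, 4} : Finset ℕ)) ∨ (eo q s = 4 ∧ eo q r = 3))) ∨
          (eo q s < eo q r ∧ (eo q r ∈ ({8, 12} : Finset ℕ) ∨ (eo q r = 6 ∧ eo q s ∈ ({3, 4} : Finset ℕ)) ∨ (eo q r = 4 ∧ eo q s = 3)))))) := by
  have h2q : ∀ p : ℕ, p.Prime → (p = 2 ↔ p ∣ q) := fun p hp => by
    refine ⟨fun h => h ▸ hq ▸ dvd_pow_self 2 (by omega), fun h => ?_⟩
    exact (Nat.prime_dvd_prime_iff_eq hp Nat.prime_two).1 (hp.dvd_of_dvd_pow (hq ▸ h))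
  have key : ∀ a b : ℕ, a.Prime → b.Prime → a ≠ b → a ∣ Nat.card ↥(F4Data.tab.D.group F) →
      b ∣ Nat.card ↥(F4Data.tab.D.group F) →
      (a = 2 ∨ (a ≠ 2 ∧ b ≠ 2 ∧ eo q a ≤ eo q b)) →
      ((¬ ∃ x : ↥(F4Data.tab.D.group F), orderOf x = a * b) ↔
        (a = 2 ∧ (eo q b = 8 ∨ eo q b = 12)) ∨ (a ≠ 2 ∧ eo q a < eo q b ∧
          (eo q b = 8 ∨ eo q b = 12 ∨ (eo q b = 6 ∧ (eo q a = 3 ∨ eo q a = 4)) ∨
            (eo q b = 4 ∧ eo q a = 3)))) := by
    intro a b ha hb hab haG hbG hor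
    haveI := Fact.mk ha
    haveI := Fact.mk hb
    have hb2 : b ≠ 2 := by rcases hor with h | ⟨-, h, -⟩ <;> omega
    have hkb := eo_mem hF (fun h => hb2 ((h2q b hb).2 h)) hbG
    simp only [List.mem_cons, List.not_mem_nil, or_false] at hkb
    constructor
    · intro hno
      rcases hor with ha2 | ⟨ha2, -, hle⟩
      · refine Or.inl ⟨ha2, ?_⟩
        by_contra hc
        refine hno (adjacent_small hF ha hb hab (Or.inl ha2) (Or.inr ?_))
        simp only [List.mem_cons, List.not_mem_nil, or_false]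
        omega
      · refine Or.inr ⟨ha2, ?_⟩
        have hka := eo_mem hF (fun h => ha2 ((h2q a ha).2 h)) haG
        simp only [List.mem_cons, List.not_mem_nil, or_false] at hka
        by_contra hc
        refine hno ?_
        by_cases h3 : eo q a = eo q b ∧ 3 ≤ eo q a
        · refine adjacent_same hF ha hb hab (k := eo q a) ?_ rfl h3.1.symm haG hbG
            (fun h => ha2 ((h2q a ha).2 h)) (fun h => hb2 ((h2q b hb).2 h))
          simp only [List.mem_cons, List.not_mem_nil, or_false]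
          omega
        · refine adjacent_small hF ha hb hab (Or.inr ?_) (Or.inr ?_)
          · omega
          · simp only [List.mem_cons, List.not_mem_nil, or_false]
            omega
    · intro h
      rcases h with ⟨ha2, h8⟩ | ⟨ha2, hlt, h8⟩
      · exact not_adjacent_big hF ha hb h8 rfl (h2q a ha) (Or.inl ha2)
      · rcases (by omega : (eo q b = 8 ∨ eo q b = 12) ∨ ((eo q a = 3 ∧ eo q b = 4) ∨
            (eo q a = 3 ∧ eo q b = 6) ∨ (eo q a = 4 ∧ eo q b = 6))) with h' | h'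
        · exact not_adjacent_big hF ha hb h' rfl (h2q a ha) (Or.inr hlt.ne)
        · exact not_adjacent_mid hF ha hb h' rfl rfl
  have hswap : (¬ ∃ x : ↥(F4Data.tab.D.group F), orderOf x = r * s) ↔
      ¬ ∃ x : ↥(F4Data.tab.D.group F), orderOf x = s * r := by rw [mul_comm]
  simp only [Finset.mem_insert, Finset.mem_singleton]
  rcases (by omega : (r = 2 ∨ (r ≠ 2 ∧ s ≠ 2 ∧ eo q r ≤ eo q s)) ∨
      (s = 2 ∨ (s ≠ 2 ∧ r ≠ 2 ∧ eo q s ≤ eo q r))) with h | h
  · rw [key r s hr hs hrs hrG hsG h]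
    constructor <;> intro h' <;> omega
  · rw [hswap, key s r hs hr hrs.symm hsG hrG h]
    constructor <;> intro h' <;> omega

end Cfsg.Agent.F4Graph
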