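import Cfsg.Agent.Lib.F4Graph.Torus
import Cfsg.Agent.Lib.SylHom.Small

/-! Cyclotomic factors of twists and conjugation of semisimple elements into the torus. -/

set_option autoImplicit false
set_option maxRecDepth 20000

namespace Cfsg.Agent.F4Graph

open Cfsg.Lie Cfsg.Agent.Chev Cfsg.Agent.Chev.Tab Cfsg.Agent.ChevAut Cfsg.Agent.CoxTorus Matrix
  Polynomial

universe u

local notation "l4" => F4Data.tab.l

theorem four_eq : l4 = 4 := by decide +kernel

theorem wmat_pow_W {L : List ℕ} (hL : F4Data.tab.Wd L) :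
    wmat F4Data.tab L ^ Nat.card (wG gA.toGood) = 1 :=
  wmat_pow_card gA.toGood ⟨1, one_pos, CoxTorus.F4.dualOK⟩ hL

/-- The order of `q` modulo `r`. -/
theorem order_facts {r q k : ℕ} [Fact r.Prime] (hk : orderOf (q : ZMod r) = k) (hk0 : k ≠ 0) :
    IsPrimitiveRoot (q : ZMod r) k ∧ k ∣ r - 1 ∧ k < r := by
  have hr : r.Prime := Fact.out
  have hprim : IsPrimitiveRoot (q : ZMod r) k := hk ▸ IsPrimitiveRoot.orderOf _
  have hq0 : (q : ZMod r) ≠ 0 := fun h => by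
    rw [h] at hk
    exact hk0 (hk.symm.trans (orderOf_eq_zero_iff'.2 fun n hn h1 => by
      rw [zero_pow hn.ne'] at h1; exact zero_ne_one h1))
  have hd : k ∣ r - 1 := hprim.dvd_of_pow_eq_one _ (ZMod.pow_card_sub_one_eq_one hq0)
  refine ⟨hprim, hd, ?_⟩
  have := Nat.le_of_dvd (by have := hr.two_le; omega) hd
  have := hr.two_le
  omega

theorem five_le {r q k : ℕ} [Fact r.Prime] (hk : orderOf (q : ZMod r) = k) (hk3 : 3 ≤ k) : 5 ≤ r := by
  have hr : r.Prime := Fact.out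
  have h := (order_facts hk (by omega)).2.2
  rcases Nat.lt_or_ge r 5 with h5 | h5
  · obtain rfl : r = 4 := by omega
    norm_num at hr
  · exact h5

variable {F : Type u} {E : Type} [Field F] [Field E] [Fintype F] [Fintype E] {q d : ℕ} (X : Ext F E q d)

theorem Ext.dvd_pred (X : Ext F E q d) {r k : ℕ} [Fact r.Prime] (hk : orderOf (q : ZMod r) = k) (hkd : k ∣ d) :
    r ∣ Fintype.card E - 1 := by
  have hq : 1 ≤ q := X.card_F ▸ Fintype.card_pos
  rw [X.card_E, SylHom.pow_sub_one_dvd_iff (hk ▸ IsPrimitiveRoot.orderOf _) hq]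
  exact hkd

theorem exists_zeta {r : ℕ} [Fact r.Prime] (hE : r ∣ Fintype.card E - 1) : ∃ ζ : Eˣ, orderOf ζ = r :=
  exists_prime_orderOf_dvd_card' (G := Eˣ) r (by rwa [Nat.card_units, Nat.card_eq_fintype_card])

/-- A nonzero eigenvector gives a cyclotomic factor. -/
theorem cyclo_dvd {r k : ℕ} [Fact r.Prime] (hk : orderOf (q : ZMod r) = k) (hk3 : 3 ≤ k)
    {L : List ℕ} (hL : F4Data.tab.Wd L) {γ : Fin l4 → ZMod r} (hγ : γ ≠ 0)
    (he : γ ᵥ* (Int.castRingHom (ZMod r)).mapMatrix (wmat F4Data.tab L) = (q : ZMod r) • γ) :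
    cyclotomic k ℤ ∣ (wmat F4Data.tab L).charpoly := by
  obtain ⟨hprim, -, hlt⟩ := order_facts hk (by omega)
  obtain ⟨b, hb, hcard⟩ := SylHom.card_eigen_le (A := wmat F4Data.tab L) (q := q) Nat.card_pos
    (not_dvd_cardW Fact.out (five_le hk hk3)) (wmat_pow_W hL) hprim
    (Nat.not_dvd_of_pos_of_lt (by omega) hlt)
  refine (dvd_pow_self _ fun h0 : b = 0 => ?_).trans hb
  rw [h0, pow_zero, Finite.card_le_one_iff_subsingleton] at hcard
  exact hγ (congrArg Subtype.val (hcard.allEq ⟨γ, he⟩ ⟨0, by simp⟩))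

omit [Fintype E] in
theorem gamma_ne_zero {r : ℕ} [Fact r.Prime] {u : Fin l4 → Eˣ} {ζ : Eˣ} {γ : Fin l4 → ZMod r}
    (hγ : ∀ j, u j = ζ ^ (γ j).val) {j : Fin l4} (hj : u j ≠ 1) : γ ≠ 0 := by
  intro h
  rw [hγ, h, Pi.zero_apply, ZMod.val_zero, pow_zero] at hj
  exact hj rfl

/-- Eigenvectors modulo `s` give twisted torus elements. -/
theorem exists_twist_elt {s k : ℕ} [Fact s.Prime] (hk : orderOf (q : ZMod s) = k) (hk0 : k ≠ 0)
    {M : Matrix (Fin l4) (Fin l4) ℤ} {a : ℕ} (ha : 0 < a) (hM : M.charpoly = cyclotomic k ℤ ^ a)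
    (hE : s ∣ Fintype.card E - 1) :
    ∃ u : Fin l4 → Eˣ, Twist u M q ∧ (∀ j, u j ^ s = 1) ∧ ∃ j, u j ≠ 1 := by
  obtain ⟨hprim, -, hlt⟩ := order_facts hk hk0
  have hdet : (Matrix.scalar (Fin l4) (q : ZMod s) - (Int.castRingHom (ZMod s)).mapMatrix M).det = 0 := by
    haveI : NeZero ((k : ℕ) : ZMod s) := ⟨fun h0 =>
      Nat.not_dvd_of_pos_of_lt (Nat.pos_of_ne_zero hk0) hlt ((ZMod.natCast_eq_zero_iff k s).1 h0)⟩
    rw [← eval_charpoly, RingHom.mapMatrix_apply, charpoly_map, hM, Polynomial.map_pow, map_cyclotomic,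
      eval_pow, (isRoot_cyclotomic_iff.2 hprim : (cyclotomic k (ZMod s)).eval (q : ZMod s) = 0),
      zero_pow ha.ne']
  obtain ⟨γ, hγ0, hγ⟩ := exists_vecMul_eq_zero_iff.2 hdet
  obtain ⟨ζ, hζ⟩ := exists_zeta (E := E) hE
  refine ⟨fun j => ζ ^ (γ j).val, ?_, fun j => ?_, ?_⟩
  · rw [twist_iff]
    intro j
    simp only [chi, ← zpow_natCast, ← _root_.zpow_mul]
    rw [SylHom.prod_zpow_sum, ← orderOf_dvd_sub_iff_zpow_eq_zpow, hζ, ← ZMod.intCast_zmod_eq_zero_iff_dvd,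
      Int.cast_sub, sub_eq_zero, Int.cast_sum]
    have e := congrFun hγ j
    rw [Matrix.vecMul_sub, Pi.sub_apply, Pi.zero_apply, sub_eq_zero] at e
    simp only [scalar_apply, vecMul_diagonal] at e
    simp only [vecMul, dotProduct, RingHom.mapMatrix_apply, map_apply, eq_intCast] at e
    simpa [mul_comm] using e.symm
  · show (ζ ^ _) ^ s = 1
    rw [pow_right_comm, orderOf_dvd_iff_pow_eq_one.1 hζ.dvd, one_pow]
  · obtain ⟨j, hj⟩ := Function.ne_iff.1 hγ0
    refine ⟨j, fun h => hj ?_⟩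
    refine (ZMod.val_eq_zero _).1 ?_
    have h1 : ζ ^ (γ j).val = 1 := h
    have h2 := orderOf_dvd_of_pow_eq_one h1
    rw [hζ] at h2
    exact Nat.eq_zero_of_dvd_of_lt h2 (ZMod.val_lt _)

/-- Coordinates of a torus conjugate of an element of prime order. -/
theorem coords {r : ℕ} {h : GL F4Data.tab.D.Idx E} {x : ↥(F4Data.tab.D.group F)} {c : ℕ → Eˣ}
    (hc : h * emb X x * h⁻¹ = tor F4Data.tab E c) (hx : x ^ r = 1) {j : ℕ} (hj : j < l4) : c j ^ r = 1 :=
  tor_coord_pow (by rw [← hc, conj_pow, ← map_pow, hx, map_one]; group) hj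

theorem coord_ne_one {h : GL F4Data.tab.D.Idx E} {x : ↥(F4Data.tab.D.group F)} {c : ℕ → Eˣ}
    (hc : h * emb X x * h⁻¹ = tor F4Data.tab E c) (hx : x ≠ 1) : ∃ j : Fin l4, c j ≠ 1 := by
  by_contra hcon
  push Not at hcon
  rw [tor_congr gA.toGood (d := 1) (fun j hj => hcon ⟨j, hj⟩), map_one, conj_eq_one_iff] at hc
  exact hx (emb_inj X (hc.trans (map_one _).symm))

/-- Conjugation into the torus inside a subgroup containing it. -/
theorem exists_conj_in {r : ℕ} (hr : r.Prime) (hQ : r ∣ Fintype.card E - 1)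
    (hW : ¬ r ∣ Nat.card (wG gA.toGood)) {K : Subgroup (GL F4Data.tab.D.Idx E)}
    (hK : K ≤ F4Data.tab.D.group E) (hD : F4Data.tab.D.diagonalSubgroup E ≤ K)
    {y : GL F4Data.tab.D.Idx E} (hy : y ∈ K) (hyr : y ^ r = 1) :
    ∃ h ∈ K, ∃ c, h * y * h⁻¹ = tor F4Data.tab E c := by
  classical
  haveI : Fact r.Prime := ⟨hr⟩
  have hg := gA.toGood
  haveI : Finite E := Finite.of_fintype E
  let G := F4Data.tab.D.group E
  let Dg := F4Data.tab.D.diagonalSubgroup E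
  have hidxG : ¬ r ∣ Dg.relIndex G := by
    have h1 := (Dg.subgroupOf G).card_mul_index
    rw [Nat.card_congr (Subgroup.subgroupOfEquivOfLe (hD.trans hK)).toEquiv, card_group_eq gA,
      card_borel gA, mul_comm (Fintype.card E ^ F4Data.tab.N), mul_assoc] at h1
    rw [Subgroup.relIndex, Nat.eq_of_mul_eq_mul_left Nat.card_pos h1, ← ZMod.natCast_eq_zero_iff]
    haveI : Fintype ↥(wG hg) := Fintype.ofFinite _
    have hQ1 : (Fintype.card E : ZMod r) = 1 := by
      have := (ZMod.natCast_eq_zero_iff (Fintype.card E - 1) r).2 hQ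
      rwa [Nat.cast_sub Fintype.card_pos, Nat.cast_one, sub_eq_zero] at this
    simp only [Nat.cast_mul, Nat.cast_pow, hQ1, one_pow, one_mul, Nat.cast_sum, Finset.sum_const,
      Finset.card_univ, nsmul_eq_mul, mul_one]
    rw [ZMod.natCast_eq_zero_iff]
    convert hW using 2
    convert Nat.card_eq_fintype_card.symm
  let D : Subgroup K := Dg.subgroupOf K
  have hidx : ¬ r ∣ D.index := fun h => hidxG
    (Subgroup.relIndex_mul_relIndex Dg K G hD hK ▸ dvd_mul_of_dvd_left h _)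
  let P₀ : Sylow r D := default
  have hPidx : ¬ r ∣ ((P₀ : Subgroup D).map D.subtype).index := by
    rw [Subgroup.index_map_subtype]
    intro h
    rcases hr.dvd_mul.1 h with h | h
    · exact P₀.not_dvd_index' (fun h0 => Subgroup.index_ne_zero_of_finite h0) h
    · exact hidx h
  let P : Sylow r K := (P₀.isPGroup'.map D.subtype).toSylow hPidx
  have hzp : IsPGroup r (Subgroup.zpowers (⟨y, hy⟩ : K)) := by
    intro z
    obtain ⟨k, hk⟩ := Subgroup.mem_zpowers_iff.1 z.2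
    refine ⟨1, Subtype.ext ?_⟩
    have : ((⟨y, hy⟩ : K)) ^ r = 1 := Subtype.ext hyr
    rw [pow_one, SubmonoidClass.coe_pow, ← hk, ← zpow_natCast, ← _root_.zpow_mul, mul_comm, _root_.zpow_mul,
      zpow_natCast, this, _root_.one_zpow]
    rfl
  obtain ⟨Q, hQ'⟩ := hzp.exists_le_sylow
  obtain ⟨h, hh⟩ := MulAction.exists_smul_eq K Q P
  have hmem : h * ⟨y, hy⟩ * h⁻¹ ∈ (P : Subgroup K) := by
    rw [← hh, Sylow.smul_def, Sylow.pointwise_smul_def]
    exact ⟨_, hQ' (Subgroup.mem_zpowers _), rfl⟩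
  obtain ⟨z, -, hz⟩ : h * ⟨y, hy⟩ * h⁻¹ ∈ (P₀ : Subgroup D).map D.subtype := hmem
  have hzD : ((z : K) : GL F4Data.tab.D.Idx E) ∈ Dg := z.2
  rw [show Dg = _ from diagonalSubgroup_eq hg] at hzD
  obtain ⟨c, hc⟩ := hzD
  exact ⟨h, h.2, c, (congrArg Subtype.val hz).symm.trans hc.symm⟩

end Cfsg.Agent.F4Graph
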