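import Cfsg.Agent.Lib.CoxTorus.F4
import Cfsg.Agent.Lib.CoxTorus.Diag
import Cfsg.Agent.Lib.Lie.ParabolicCells
import Cfsg.Agent.Lib.Lie.TwClosure
import Cfsg.Agent.Lib.Lie.InvDataF4

/-! Elements of prime order in Levi subgroups of F4, and two commuting ones. -/

set_option autoImplicit false
set_option maxRecDepth 20000

namespace Cfsg.Agent.F4Graph

open Cfsg.Lie Cfsg.Agent.Chev Cfsg.Agent.Chev.Tab Cfsg.Agent.ChevAut Cfsg.Agent.CoxTorus

theorem card_sup_dvd {G : Type*} [Group G] [Finite G] (A B : Subgroup G)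
    (h : B ≤ Subgroup.normalizer (A : Set G)) : Nat.card ↥(A ⊔ B) ∣ Nat.card A * Nat.card B := by
  haveI : (A.subgroupOf (A ⊔ B)).Normal :=
    (Subgroup.normal_subgroupOf_iff_le_normalizer le_sup_left).2 (sup_le Subgroup.le_normalizer h)
  have e : A.subgroupOf (A ⊔ B) ⊔ B.subgroupOf (A ⊔ B) = ⊤ := by
    rw [← Subgroup.subgroupOf_sup le_sup_left le_sup_right, Subgroup.subgroupOf_self]
  have h1 := (A.subgroupOf (A ⊔ B)).card_mul_index
  have h2 : (A.subgroupOf (A ⊔ B)).index ∣ Nat.card ↥(B.subgroupOf (A ⊔ B)) := by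
    have h3 := Subgroup.relIndex_sup_right (B.subgroupOf (A ⊔ B)) (A.subgroupOf (A ⊔ B))
    rw [show B.subgroupOf (A ⊔ B) ⊔ A.subgroupOf (A ⊔ B) = ⊤ from (sup_comm _ _).trans e,
      Subgroup.relIndex_top_right] at h3
    rw [h3]
    exact Subgroup.relIndex_dvd_card _ _
  rw [← h1, Nat.card_congr (Subgroup.subgroupOfEquivOfLe (le_sup_left : A ≤ A ⊔ B)).toEquiv]
  rw [Nat.card_congr (Subgroup.subgroupOfEquivOfLe (le_sup_right : B ≤ A ⊔ B)).toEquiv] at h2
  exact Nat.mul_dvd_mul_left _ h2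

variable {T : Tab} {F : Type*} [Field F] {K : List (List ℕ)}

/-- The roots of a Levi subgroup. -/
abbrev lev (T : Tab) (J : List ℕ) : Set ℕ := T.inJ {j | j ∈ J}

theorem hS_mem_lev (g : T.Good) {J : List ℕ} {j : ℕ} (hj : j < T.l) (hJ : j ∈ J) (u : Fˣ) :
    hS T F j u ∈ genS g F (lev T J) := by
  refine genS_mono g ?_ (hS_mem_node g hj u)
  intro s hs
  have h := smp_mem_inJ g (J := {k | k ∈ J}) hj hJ
  simp only [List.mem_cons, List.not_mem_nil, or_false] at hs
  rcases hs with rfl | rfl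
  exacts [h, inJ_neg g h]

theorem exists_order_lev (g : T.GoodK K) {M : List (List ℤ)} (hM : checkDual T 1 M = true)
    [Fintype F] (p : ℕ) [Fact p.Prime] [CharP F p] {J : List ℕ} (hJ : ∀ j ∈ J, j < T.l)
    {j : ℕ} (hjJ : j ∈ J) {s : ℕ} [Fact s.Prime]
    (hs : s ∣ (Fintype.card F - 1) * poinc g.toGood J (Fintype.card F)) (hsp : s ≠ p) :
    ∃ y ∈ genS g.toGood F (lev T J), orderOf y = s := by
  classical
  have hsP : s.Prime := Fact.out
  have hg := g.toGood
  haveI : Finite F := Finite.of_fintype F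
  by_cases h1 : s ∣ Fintype.card F - 1
  · obtain ⟨t, ht⟩ := exists_prime_orderOf_dvd_card' (G := Fˣ) s
      (by rwa [Nat.card_units, Nat.card_eq_fintype_card])
    refine ⟨hS T F j t, hS_mem_lev hg (hJ j hjJ) hjJ t, ?_⟩
    show orderOf (tor T F (Pi.mulSingle j t)) = s
    refine orderOf_eq_prime ?_ fun h => ?_
    · rw [← map_pow, ← Pi.mulSingle_pow, ← ht, pow_orderOf_eq_one, Pi.mulSingle_one, map_one]
    · have := tor_inj hg hM (h.trans (map_one _).symm) (hJ j hjJ)
      rw [Pi.mulSingle_eq_same, Pi.one_apply] at this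
      rw [this, orderOf_one] at ht
      exact hsP.one_lt.ne ht
  have hsPo := (hsP.dvd_mul.1 hs).resolve_left h1
  have hcard : s ∣ Nat.card (parL T F J) := by
    rw [card_parL g.toGoodA hJ]; exact dvd_mul_of_dvd_right hsPo _
  obtain ⟨n, hp, hn⟩ := FiniteField.card F p
  have hnot : ¬ s ∣ Fintype.card F ^ T.N := fun h =>
    hsp ((Nat.prime_dvd_prime_iff_eq hsP hp).1 (hsP.dvd_of_dvd_pow (hn ▸ hsP.dvd_of_dvd_pow h)))
  set S : Set ℕ := {k | k ∈ J}
  set R := genS hg F (T.outJ S)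
  set L := genS hg F (T.inJ S)
  have hR : ¬ s ∣ Nat.card R := fun h =>
    hnot (h.trans ((Subgroup.card_dvd_of_le (genS_mono hg outJ_pos)).trans (card_pos (F := F) g.toGoodA).dvd))
  have hD : ¬ s ∣ Nat.card ↥(T.D.diagonalSubgroup F) := fun h => by
    rw [diagonalSubgroup_eq hg] at h
    have e : (tor T F).range = ((tor T F).comp (extC T F)).range := by
      refine le_antisymm ?_ (by rintro _ ⟨c, rfl⟩; exact ⟨_, rfl⟩)
      rintro _ ⟨c, rfl⟩
      exact ⟨fun k => c k, tor_congr hg fun k hk => by simp [extC, hk]⟩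
    rw [e] at h
    have h3 := h.trans (Subgroup.card_range_dvd _)
    rw [Nat.card_fun, Nat.card_units, Nat.card_eq_fintype_card] at h3
    exact h1 (hsP.dvd_of_dvd_pow h3)
  have hP : parL T F J = R ⊔ (T.D.diagonalSubgroup F ⊔ L) := (levi_sup g S).symm
  have hNR : T.D.diagonalSubgroup F ⊔ L ≤ Subgroup.normalizer (R : Set (GL T.D.Idx F)) :=
    (le_sup_right.trans_eq hP.symm).trans (parabolic_normalizes g S)
  have hNL : T.D.diagonalSubgroup F ≤ Subgroup.normalizer (L : Set (GL T.D.Idx F)) := by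
    rw [diagonalSubgroup_eq hg]
    rintro _ ⟨c, rfl⟩
    exact tor_normalizes hg (fun r hr => hr.1) c
  have hdvd := hcard.trans ((hP ▸ card_sup_dvd R _ hNR : Nat.card ↥(parL T F J) ∣ _))
  have h2 := (hsP.dvd_mul.1 hdvd).resolve_left hR
  rw [sup_comm] at h2
  have h3 := (hsP.dvd_mul.1 (h2.trans (card_sup_dvd L _ hNL))).resolve_right hD
  obtain ⟨y, hy⟩ := exists_prime_orderOf_dvd_card' (G := L) s h3
  exact ⟨y, y.2, by rw [Subgroup.orderOf_coe]; exact hy⟩

local notation "T4" => F4Data.tab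

theorem step0' : F4Data.tab.checkStep [] [0] [⟨[0], 1, 237115672, [(true, 1)]⟩,
    ⟨[], 0, 555424024, [(true, 0)]⟩] = true := by decide +kernel

/-- The roots of the B3 Levi subgroup. -/
def rootsB : List ℕ :=
  (List.range 48).filter fun r => inPhiB (T := F4Data.tab) [2, 1, 3] r

/-- Commutation in characteristic two. -/
def checkEven (A B : List ℕ) : Bool :=
  A.all fun r => Nat.blt r F4Data.tab.n && B.all fun s =>
    Nat.blt s F4Data.tab.n && (!Nat.beq s r && (!Nat.beq s (F4Data.tab.neg r) &&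
      (F4Data.tab.cTerms r s).all (fun c => Nat.beq (c.2.1.natAbs % 2) 0)))

theorem evenOK : checkEven rootsB [44, F4Data.tab.neg 44] = true := by decide +kernel

theorem goodK : F4Data.tab.GoodK [[2, 3, 4, 2], [3, 6, 8, 4], [2, 4, 6, 3], [1, 2, 3, 2]] :=
  Cfsg.Agent.Chev.InvF4.goodK

variable [CharP F 2]

theorem even_commute {A B : List ℕ} (h : checkEven A B = true) {x y : GL F4Data.tab.D.Idx F}
    (hx : x ∈ genS F4Data.good F {r | r ∈ A}) (hy : y ∈ genS F4Data.good F {r | r ∈ B}) :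
    Commute x y := by
  have g : F4Data.tab.GoodA := goodK.toGoodA
  simp only [checkEven, List.all_eq_true, Bool.and_eq_true, nat_blt, Bool.not_eq_true',
    nat_beq_false, nat_beq] at h
  refine genS_induction F4Data.good (p := fun x => Commute x y) (Commute.one_left _) ?_ hx
  intro r hr t x' hx'
  refine Commute.mul_left ?_ hx'
  refine genS_induction F4Data.good (p := fun y => Commute (xg F4Data.good r t) y) (Commute.one_right _)
    ?_ hy
  intro s hs u y' hy'
  refine Commute.mul_right ?_ hy'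
  obtain ⟨hrn, hrs⟩ := h r hr
  obtain ⟨hsn, h1, h2, h3⟩ := hrs s hs
  show _ = _
  rw [xg_comm g hrn hsn h1 h2, List.prod_eq_one, mul_one]
  intro z hz
  simp only [cVal, List.map_map, List.mem_map, Function.comp_apply] at hz
  obtain ⟨c, hc, rfl⟩ := hz
  rw [(CharP.intCast_eq_zero_iff F 2 _).2 (Int.natCast_dvd.2 (Nat.dvd_of_mod_eq_zero (h3 c hc))),
    zero_mul, zero_mul, xg_zero]

theorem orderOf_xg {r : ℕ} (hr : r < F4Data.tab.n) : orderOf (xg F4Data.good r (1 : F)) = 2 := by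
  haveI : Fact (Nat.Prime 2) := ⟨Nat.prime_two⟩
  refine orderOf_eq_prime ?_ fun h => ?_
  · rw [pow_two, xg_add, CharTwo.add_self_eq_zero, xg_zero]
  · exact one_ne_zero (xg_injective F4Data.good hr (h.trans (xg_zero _ r).symm))

/-- The first case of adjacency. -/
theorem exists_small_pair [Fintype F] {r s : ℕ} (hr : r.Prime) (hs : s.Prime) (hrs : r ≠ s)
    (h1 : r = 2 ∨ r ∣ Fintype.card F ^ 2 - 1)
    (h2 : s = 2 ∨ s ∣ (Fintype.card F ^ 2 - 1) * (Fintype.card F ^ 4 - 1) * (Fintype.card F ^ 6 - 1)) :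
    ∃ x : ↥(F4Data.tab.D.group F), orderOf x = r * s := by
  classical
  haveI := Fact.mk hr
  haveI := Fact.mk hs
  haveI : Fact (Nat.Prime 2) := ⟨Nat.prime_two⟩
  haveI : Finite F := Finite.of_fintype F
  have hg := F4Data.good
  set q := Fintype.card F with hq
  have hq1 : 1 ≤ q := Fintype.card_pos
  have hp0 : poinc hg [0] q = q + 1 := by
    rw [poinc_step hg step0', poinc_nil]
    simp [add_comm]
  have hp3 : (((q - 1) ^ 3 * poinc hg [2, 1, 3] q : ℕ) : ℤ) =
      (((q ^ 2 - 1) * (q ^ 4 - 1) * (q ^ 6 - 1) : ℕ) : ℤ) := by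
    rw [poinc_step hg F4Data.step2, poinc_step hg F4Data.step1, poinc_step hg F4Data.step0, poinc_nil]
    simp only [F4Data.reps0, F4Data.reps1, F4Data.reps2, List.map_cons, List.map_nil, List.sum_cons,
      List.sum_nil]
    push_cast [Nat.one_le_pow _ _ (show 0 < q by omega), hq1]
    ring
  obtain ⟨x, hx, hxo⟩ : ∃ x ∈ genS hg F {t | t ∈ [44, F4Data.tab.neg 44]}, orderOf x = r := by
    by_cases h : r = 2
    · exact ⟨_, xg_mem_genS hg (show 44 ∈ {t | t ∈ [44, F4Data.tab.neg 44]} from List.mem_cons_self) 1,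
        by rw [h]; exact orderOf_xg (by decide +kernel)⟩
    · have hd : r ∣ (q - 1) * poinc goodK.toGood [0] q := by
        rw [show poinc goodK.toGood [0] q = q + 1 from hp0, mul_comm, ← Nat.sq_sub_sq, one_pow]
        exact h1.resolve_left h
      obtain ⟨y, hy, hyo⟩ := exists_order_lev goodK CoxTorus.F4.dualOK 2 (J := [0])
        (by decide +kernel) List.mem_cons_self hd h
      have hL : F4Data.tab.Wd [0, 1, 2, 3, 1, 2, 1] := by
        intro i hi
        exact (by decide +kernel : ∀ i ∈ [0, 1, 2, 3, 1, 2, 1], i < F4Data.tab.l) i hi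
      set n := nWd hg F [0, 1, 2, 3, 1, 2, 1]
      refine ⟨n * y * n⁻¹, ?_, by rw [← hyo]; exact (MulAut.conj n).orderOf_eq y⟩
      refine genS_induction hg (p := fun y => n * y * n⁻¹ ∈ genS hg F {t | t ∈ [44, F4Data.tab.neg 44]})
        (by simp [one_mem]) ?_ hy
      intro t ht a z hz
      rw [show n * (xg hg t a * z) * n⁻¹ = n * xg hg t a * n⁻¹ * (n * z * n⁻¹) by group]
      refine mul_mem ?_ hz
      obtain ⟨ε, -, hc⟩ := nWd_conj (F := F) hg hL ht.1
      rw [(hc a).1]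
      refine xg_mem_genS hg ?_ _
      have hmem := (by decide +kernel : ∀ t < F4Data.tab.n, inPhiB (T := F4Data.tab) [0] t = true →
        F4Data.tab.rw' [0, 1, 2, 3, 1, 2, 1] t ∈ [44, F4Data.tab.neg 44]) t ht.1
        (inPhiB_iff.2 fun k hk hkJ => ht.2 k hk hkJ)
      exact hmem
  obtain ⟨y, hy, hyo⟩ : ∃ y ∈ genS hg F {t | t ∈ rootsB}, orderOf y = s := by
    by_cases h : s = 2
    · exact ⟨_, xg_mem_genS hg (show F4Data.tab.smp 1 ∈ rootsB by decide +kernel) 1,
        by rw [h]; exact orderOf_xg (by decide +kernel)⟩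
    · have hd : s ∣ (q - 1) * poinc goodK.toGood [2, 1, 3] q := by
        have hs1 : s ∣ (q - 1) ^ 3 * poinc hg [2, 1, 3] q := by
          rw [Int.natCast_inj.1 hp3]; exact h2.resolve_left h
        rcases hs.dvd_mul.1 hs1 with h' | h'
        · exact dvd_mul_of_dvd_left (hs.dvd_of_dvd_pow h') _
        · exact dvd_mul_of_dvd_right h' _
      obtain ⟨y, hy, hyo⟩ := exists_order_lev goodK CoxTorus.F4.dualOK 2 (J := [2, 1, 3])
        (by decide +kernel) List.mem_cons_self hd h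
      refine ⟨y, genS_mono hg (fun t ht => ?_) hy, hyo⟩
      exact List.mem_filter.2 ⟨List.mem_range.2 ht.1, inPhiB_iff.2 fun k hk hkJ => ht.2 k hk hkJ⟩
  have hxG : x ∈ F4Data.tab.D.group F := genS_le hg (fun t _ u => xg_mem_group hg t u) hx
  have hyG : y ∈ F4Data.tab.D.group F := genS_le hg (fun t _ u => xg_mem_group hg t u) hy
  refine ⟨⟨x * y, mul_mem hxG hyG⟩, ?_⟩
  rw [← Subgroup.orderOf_coe, show ((⟨x * y, mul_mem hxG hyG⟩ : ↥(F4Data.tab.D.group F)) : GL _ F) = x * y from rfl,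
    Commute.orderOf_mul_eq_mul_orderOf_of_coprime (even_commute evenOK hy hx).symm
      (by rw [hxo, hyo]; exact (Nat.coprime_primes hr hs).2 hrs), hxo, hyo]

end Cfsg.Agent.F4Graph
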