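import Cfsg.Agent.Lib.CoxTorus.F4
import Cfsg.Agent.Lib.SylHom.Conj
import Cfsg.Agent.Lib.SylHom.Cyclo

/-! Tori of F4 over an extension field attached to semisimple elements. -/

set_option autoImplicit false
set_option maxRecDepth 20000

namespace Cfsg.Agent.F4Graph

open Cfsg.Lie Cfsg.Agent.Chev Cfsg.Agent.Chev.Tab Cfsg.Agent.ChevAut Cfsg.Agent.CoxTorus Matrix
  Polynomial

universe u

theorem gA : F4Data.tab.GoodA := ⟨F4Data.good, by decide +kernel⟩

theorem cardW : Nat.card (wG gA.toGood) = 1152 := by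
  have h := card_wG gA.toGood F4Data.chainOK
  rw [show ((F4Data.steps.map fun e => evalL (1 : ℤ) (lenPoly e.2)).prod) = (1152 : ℤ) by
    decide +kernel] at h
  exact_mod_cast h

theorem not_dvd_cardW {r : ℕ} (hr : r.Prime) (h5 : 5 ≤ r) : ¬ r ∣ Nat.card (wG gA.toGood) := by
  rw [cardW, show 1152 = 2 ^ 7 * 3 ^ 2 from rfl]
  intro h
  rcases hr.dvd_mul.1 h with h | h
  · have := Nat.le_of_dvd (by norm_num) (hr.dvd_of_dvd_pow h); omega
  · have := Nat.le_of_dvd (by norm_num) (hr.dvd_of_dvd_pow h); omega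

/-- An extension of degree `d` with its Frobenius. -/
structure Ext (F : Type u) (E : Type) [Field F] [Field E] [Fintype F] [Fintype E] (q d : ℕ) where
  φ : F →+* E
  σ : E →+* E
  card_F : Fintype.card F = q
  card_E : Fintype.card E = q ^ d
  frob : ∀ t, σ t = t ^ q

theorem exists_ext {F : Type u} [Field F] [Fintype F] {q d : ℕ} (hF : Fintype.card F = q) (hd : 0 < d) :
    ∃ (E : Type) (_ : Field E) (_ : Fintype E), Nonempty (Ext F E q d) := by
  haveI : Finite F := Finite.of_fintype F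
  obtain ⟨p, hp⟩ := CharP.exists F
  haveI : Fact p.Prime := ⟨CharP.char_is_prime F p⟩
  haveI : NeZero d := ⟨hd.ne'⟩
  let E := FiniteField.Extension F p d
  letI : Fintype E := Fintype.ofFinite E
  have hcE : Fintype.card E = q ^ d := by
    rw [← Nat.card_eq_fintype_card, FiniteField.natCard_extension, Nat.card_eq_fintype_card, hF]
  obtain ⟨σ, hσ⟩ := TwField.exists_powHom (K := E) (hF ▸ FiniteField.isPrimePow_card F) hcE
  exact ⟨E, inferInstance, inferInstance, ⟨⟨algebraMap F E, σ, hF, hcE, hσ⟩⟩⟩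

local notation "T" => F4Data.tab

variable {F : Type u} {E : Type} [Field F] [Field E] [Fintype F] [Fintype E] {q d : ℕ} (X : Ext F E q d)

/-- The inclusion of the groups. -/
noncomputable def emb : ↥(F4Data.tab.D.group F) →* GL F4Data.tab.D.Idx E :=
  (fieldMap F4Data.tab X.φ).comp (F4Data.tab.D.group F).subtype

theorem emb_inj : Function.Injective (emb X) :=
  (Units.map_injective (Matrix.map_injective X.φ.injective)).comp Subtype.val_injective

theorem emb_group : ∀ z, emb X z ∈ F4Data.tab.D.group E := by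
  have hg := gA.toGood
  rintro ⟨z, hz⟩
  show fieldMap F4Data.tab X.φ z ∈ _
  induction hz using Subgroup.closure_induction with
  | mem y hy =>
    obtain ⟨s, t, ht⟩ := hy
    rw [show y = xg hg s t from eq_xg hg (by rw [ht, ChevalleyDatum.x, dif_pos s.2]), fieldMap_xg]
    exact xg_mem_group _ _ _
  | one => simp [one_mem]
  | mul a b _ _ ha hb => rw [map_mul]; exact mul_mem ha hb
  | inv a _ ha => rw [map_inv]; exact inv_mem ha

theorem emb_fix (z) : entryHom F4Data.tab X.σ (emb X z) = emb X z :=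
  Units.ext (Matrix.ext fun a b => by
    show X.σ (X.φ _) = X.φ _
    rw [X.frob, ← map_pow]
    refine congrArg X.φ ?_
    exact (congrArg (_ ^ ·) X.card_F.symm).trans (FiniteField.pow_card _))

theorem sigma_tor (X : Ext F E q d) (e : ℕ → Eˣ) :
    entryHom F4Data.tab X.σ (tor F4Data.tab E e) = tor F4Data.tab E (e ^ q) := by
  rw [entryHom_tor]
  congr 1
  funext j
  exact Units.ext (by simp [X.frob])

/-- The word attached to a conjugating element. -/
theorem exists_twist {h : GL F4Data.tab.D.Idx E} (hh : h ∈ F4Data.tab.D.group E) :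
    ∃ L, F4Data.tab.Wd L ∧ ∀ z c, h * emb X z * h⁻¹ = tor F4Data.tab E c →
      nWd gA.toGood E L * tor F4Data.tab E c * (nWd gA.toGood E L)⁻¹ = tor F4Data.tab E (c ^ q) ∧
      Twist (fun j : Fin F4Data.tab.l => c j) (wmat F4Data.tab L.reverse) q := by
  have hg := gA.toGood
  obtain ⟨L, hL, hword⟩ := SylHom.exists_word gA (m := entryHom F4Data.tab X.σ h * h⁻¹)
    (mul_mem (entryHom_group hg X.σ hh) (inv_mem hh))
  refine ⟨L, hL, fun z c hc => ?_⟩
  have hn := hword c (c ^ q) (by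
    rw [← sigma_tor X, ← hc, map_mul, map_mul, emb_fix, map_inv]
    group)
  refine ⟨hn, twist_of_roots hg CoxTorus.F4.dualOK fun s hs => ?_⟩
  have h1 := wt_of_conj hg hL hn (rw'_lt hg hL.reverse hs)
  rw [wt_pow, rw'_rev' hg hL hs] at h1
  rw [wmat_avec hg hL.reverse hs, ← wt_eq_chi, ← wt_eq_chi, h1]

/-- The centraliser of a regular element. -/
theorem regular_centralizer {r : ℕ} [Fact r.Prime] (hrW : ¬ r ∣ Nat.card (wG gA.toGood))
    {h : GL F4Data.tab.D.Idx E} (hh : h ∈ F4Data.tab.D.group E) {L : List ℕ} (hL : F4Data.tab.Wd L)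
    (htw : ∀ z c, h * emb X z * h⁻¹ = tor F4Data.tab E c →
      nWd gA.toGood E L * tor F4Data.tab E c * (nWd gA.toGood E L)⁻¹ = tor F4Data.tab E (c ^ q) ∧
      Twist (fun j : Fin F4Data.tab.l => c j) (wmat F4Data.tab L.reverse) q)
    {x : ↥(F4Data.tab.D.group F)} {c : ℕ → Eˣ} (hc : h * emb X x * h⁻¹ = tor F4Data.tab E c)
    (hcr : ∀ j < F4Data.tab.l, c j ^ r = 1)
    (hreg : ∀ s < F4Data.tab.n, wt F4Data.tab E c s ≠ 1) :
    (∀ z, Commute x z → ∃ e, h * emb X z * h⁻¹ = tor F4Data.tab E e) ∧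
    (∀ u : Fin F4Data.tab.l → Eˣ, Twist u (wmat F4Data.tab L.reverse) q →
      ∃ z, Commute x z ∧ h * emb X z * h⁻¹ = tor F4Data.tab E (extC F4Data.tab E u)) := by
  have hg := gA.toGood
  have hr : r.Prime := Fact.out
  have hone : ∃ j < F4Data.tab.l, c j ≠ 1 := by
    by_contra hcon
    push Not at hcon
    have : ∀ s, wt F4Data.tab E c s = 1 := fun s => Finset.prod_eq_one fun j hj => by
      rw [hcon j (Finset.mem_range.1 hj), _root_.one_zpow]
    exact hreg (F4Data.tab.smp 0) (hg.smp_lt (by decide)) (this _)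
  obtain ⟨j₀, hj₀, hne₀⟩ := hone
  have hord : orderOf (c j₀) = r := orderOf_eq_prime (hcr j₀ hj₀) hne₀
  have hstab := fun (L' : List ℕ) (hL' : F4Data.tab.Wd L')
      (hfix : ∀ s < F4Data.tab.n, wt F4Data.tab E c (F4Data.tab.rw' L' s) = wt F4Data.tab E c s) =>
    stab_trivial hg ⟨1, one_pos, CoxTorus.F4.dualOK⟩ CoxTorus.F4.combOK hr hrW hcr
      (hord ▸ IsPrimitiveRoot.orderOf (c j₀)) hreg hL' hfix
  have hcent : ∀ {y : GL F4Data.tab.D.Idx E}, y ∈ F4Data.tab.D.group E →
      Commute (tor F4Data.tab E c) y → ∃ e, y = tor F4Data.tab E e := fun hy hcomm =>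
    G2Torus.exists_tor_of_commute' gA hstab hreg hy hcomm
  refine ⟨fun z hz => hcent (mul_mem (mul_mem hh (emb_group X z)) (inv_mem hh)) ?_, fun u hu => ?_⟩
  · rw [← hc]
    exact (hz.map (emb X)).map (MulAut.conj h).toMonoidHom
  set m := entryHom F4Data.tab X.σ h * h⁻¹ with hm
  have hmG : m ∈ F4Data.tab.D.group E := mul_mem (entryHom_group hg X.σ hh) (inv_mem hh)
  have hNW : nWd hg E L ∈ F4Data.tab.D.group E :=
    monomial_le_group hg ((mem_monomial_iff hg).2 ⟨L, hL, 1, by rw [map_one, one_mul]⟩)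
  have hmc : m * tor F4Data.tab E c * m⁻¹ = tor F4Data.tab E (c ^ q) := by
    rw [← sigma_tor X, ← hc, map_mul, map_mul, emb_fix, map_inv, hm]
    group
  obtain ⟨t, ht⟩ := hcent (y := (nWd hg E L)⁻¹ * m) (mul_mem (inv_mem hNW) hmG) (by
    have h1 := hmc.trans (htw x c hc).1.symm
    show tor F4Data.tab E c * ((nWd hg E L)⁻¹ * m) = (nWd hg E L)⁻¹ * m * tor F4Data.tab E c
    calc _ = (nWd hg E L)⁻¹ * (nWd hg E L * tor F4Data.tab E c * (nWd hg E L)⁻¹) * m := by group
      _ = _ := by rw [← h1]; group)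
  have hmn : ∀ e, m * tor F4Data.tab E e * m⁻¹ =
      nWd hg E L * tor F4Data.tab E e * (nWd hg E L)⁻¹ := by
    intro e
    have hm' : m = nWd hg E L * tor F4Data.tab E t := by rw [← ht]; group
    rw [hm', show ∀ a b y : GL F4Data.tab.D.Idx E, a * b * y * (a * b)⁻¹ = a * (b * y * b⁻¹) * a⁻¹ from
      fun a b y => by group, ← map_inv, ← map_mul, ← map_mul, mul_right_comm, mul_inv_cancel, one_mul]
  set e := extC F4Data.tab E u with he
  have hext : ∀ j : Fin F4Data.tab.l, e j = u j := fun j => by simp [he, extC, j.2]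
  have hfixn : nWd hg E L * tor F4Data.tab E e * (nWd hg E L)⁻¹ = tor F4Data.tab E (e ^ q) := by
    refine conj_of_wt hg hL fun s hs => ?_
    have hs' := rw'_lt hg hL hs
    have hu' : Twist (fun j : Fin F4Data.tab.l => e j) (wmat F4Data.tab L.reverse) q := by
      simp only [hext]; exact hu
    have h1 := hu' (avec F4Data.tab (F4Data.tab.rw' L s))
    rw [wmat_avec hg hL.reverse hs', rw'_rev hg hL hs, ← wt_eq_chi, ← wt_eq_chi] at h1
    rw [wt_pow, h1]
  have hy : h⁻¹ * tor F4Data.tab E e * h ∈ F4Data.tab.D.group E :=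
    mul_mem (mul_mem (inv_mem hh) (tor_mem_group hg _)) hh
  have hfix : entryHom F4Data.tab X.σ (h⁻¹ * tor F4Data.tab E e * h) = h⁻¹ * tor F4Data.tab E e * h := by
    have h2 : entryHom F4Data.tab X.σ h = m * h := by rw [hm]; group
    rw [map_mul, map_mul, map_inv, h2, sigma_tor X, ← hfixn, ← hmn]
    group
  have hmem := fixed_eq_fixElem gA CoxTorus.F4.dualOK (fun a b e => by simpa using e) hy hfix
  obtain ⟨z, hz⟩ : h⁻¹ * tor F4Data.tab E e * h ∈ (emb X).range := by
    refine (Subgroup.closure_le (K := (emb X).range)).2 ?_ hmem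
    rintro _ ⟨k, t₀, ht₀, rfl⟩
    obtain ⟨t₁, rfl⟩ := exists_range_of_fixed X.φ (e := t₀)
      (by rw [X.card_F, ← X.frob]; exact ht₀)
    exact ⟨⟨xg hg k t₁, xg_mem_group _ _ _⟩, fieldMap_xg hg X.φ k t₁⟩
  refine ⟨z, ?_, by rw [hz]; group⟩
  apply emb_inj X
  rw [map_mul, map_mul, hz]
  have hcomm : Commute (tor F4Data.tab E c) (tor F4Data.tab E e) := (Commute.all c e).map _
  have hx : emb X x = h⁻¹ * tor F4Data.tab E c * h := by rw [← hc]; group
  rw [hx]
  calc _ = h⁻¹ * (tor F4Data.tab E c * tor F4Data.tab E e) * h := by group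
    _ = _ := by rw [hcomm.eq]; group

/-- Coordinates of an element of prime order in the torus. -/
theorem tor_coord_pow {E : Type} [Field E] {c : ℕ → Eˣ} {n : ℕ} (h : tor F4Data.tab E c ^ n = 1)
    {j : ℕ} (hj : j < F4Data.tab.l) : c j ^ n = 1 := by
  rw [← map_pow] at h
  exact tor_inj gA.toGood CoxTorus.F4.dualOK (h.trans (map_one _).symm) hj

/-- Exponents of coordinates of order `r` give eigenvectors modulo `r`. -/
theorem exists_eigen {r : ℕ} [Fact r.Prime] {E : Type} [Field E] {n : ℕ}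
    {u : Fin n → Eˣ} {M : Matrix (Fin n) (Fin n) ℤ} {q : ℕ} (hu : Twist u M q) (hur : ∀ j, u j ^ r = 1)
    {ζ : Eˣ} (hζ : orderOf ζ = r) :
    ∃ γ : Fin n → ZMod r, (∀ j, u j = ζ ^ (γ j).val) ∧
      γ ᵥ* (Int.castRingHom (ZMod r)).mapMatrix M = (q : ZMod r) • γ := by
  have hζ' : IsPrimitiveRoot (ζ : E) r := IsPrimitiveRoot.coe_units_iff.2 (hζ ▸ IsPrimitiveRoot.orderOf ζ)
  have hcoord : ∀ j, ∃ i : ZMod r, u j = ζ ^ i.val := fun j => by
    have h1 : (u j : E) ^ r = 1 := by rw [← Units.val_pow_eq_pow_val, hur, Units.val_one]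
    obtain ⟨i, hi, e⟩ := hζ'.eq_pow_of_pow_eq_one h1
    refine ⟨(i : ZMod r), Units.ext ?_⟩
    rw [ZMod.val_natCast, Nat.mod_eq_of_lt hi, Units.val_pow_eq_pow_val, e]
  choose γ hγ using hcoord
  refine ⟨γ, hγ, funext fun j => ?_⟩
  have e := (twist_iff.1 hu) j
  simp only [chi, hγ, ← zpow_natCast, ← _root_.zpow_mul] at e
  have hsum : ∀ (s : Finset (Fin n)) (f : Fin n → ℤ), ∏ i ∈ s, ζ ^ f i = ζ ^ ∑ i ∈ s, f i := fun s f => by
    induction s using Finset.induction_on with
    | empty => simp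
    | insert i s hi ih => rw [Finset.prod_insert hi, Finset.sum_insert hi, ih, _root_.zpow_add]
  rw [hsum] at e
  rw [← orderOf_dvd_sub_iff_zpow_eq_zpow, hζ, ← ZMod.intCast_zmod_eq_zero_iff_dvd, Int.cast_sub,
    sub_eq_zero, Int.cast_sum] at e
  simp only [vecMul, dotProduct, RingHom.mapMatrix_apply, map_apply, eq_intCast, Pi.smul_apply,
    smul_eq_mul]
  simpa [mul_comm] using e

end Cfsg.Agent.F4Graph
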